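import Groth.Agent.Theta44.OpenPair
import Mathlib.AlgebraicGeometry.Morphisms.Flat
import Mathlib.RingTheory.Flat.EquationalCriterion

/-!
Regular pairs pull back along flat morphisms of affine schemes.
-/

set_option autoImplicit false
set_option linter.style.haveILetI false
set_option backward.isDefEq.respectTransparency false
set_option backward.isDefEq.respectTransparency.types false
universe u

open CategoryTheory AlgebraicGeometry

namespace Groth.Agent.Stack44Ext

/-- A pair with the first element regular and the second regular modulo the first. -/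
structure RegPair {A : Type u} [CommRing A] (p q : A) : Prop where
  left : ∀ a, p * a = 0 → a = 0
  right : ∀ a, p ∣ q * a → p ∣ a

theorem RegPair.map_flat {A B : Type u} [CommRing A] [CommRing B] [Algebra A B] [Module.Flat A B] {p q : A}
    (h : RegPair p q) : RegPair (algebraMap A B p) (algebraMap A B q) := by
  constructor
  · intro c hc
    obtain ⟨k, a, y, h1, h2⟩ := Module.Flat.isTrivialRelation_of_sum_smul_eq_zero
      (f := fun _ : Fin 1 => p) (x := fun _ => c) (by simp [Algebra.smul_def, hc])
    have h3 : ∀ j, a 0 j = 0 := fun j => h.left _ (by simpa using h2 j)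
    exact (h1 0).trans (by simp [h3])
  · rintro c ⟨d, hd⟩
    obtain ⟨k, a, y, h1, h2⟩ := Module.Flat.isTrivialRelation_of_sum_smul_eq_zero
      (f := ![q, -p]) (x := ![c, d]) (by simp [Fin.sum_univ_two, Algebra.smul_def, hd])
    have h3 : ∀ j, p ∣ a 0 j := fun j => h.right _ ⟨a 1 j, by
      have := h2 j
      simp only [Fin.sum_univ_two, Matrix.cons_val_zero, Matrix.cons_val_one] at this
      linear_combination this⟩
    choose e he using h3
    refine ⟨∑ j, algebraMap A B (e j) * y j, ?_⟩
    rw [show c = ![c, d] 0 from rfl, h1 0, Finset.mul_sum]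
    exact Finset.sum_congr rfl fun j _ => by rw [Algebra.smul_def, he, map_mul, mul_assoc]

theorem RegPair.appTop {X Y : Scheme.{u}} [IsAffine X] [IsAffine Y] (f : Y ⟶ X) [Flat f] {p q : Γ(X, ⊤)}
    (h : RegPair p q) : RegPair (f.appTop p) (f.appTop q) := by
  have hf : f.appTop.hom.Flat := HasRingHomProperty.appTop (P := @Flat) f inferInstance
  letI := f.appTop.hom.toAlgebra
  haveI : Module.Flat Γ(X, ⊤) Γ(Y, ⊤) := hf
  exact h.map_flat

theorem RegPair.bijective_preimage {X Y : Scheme.{u}} [IsAffine X] [IsAffine Y] (f : Y ⟶ X) [Flat f] {p q : Γ(X, ⊤)}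
    (h : RegPair p q) : Function.Bijective (f ⁻¹ᵁ (X.basicOpen p ⊔ X.basicOpen q)).ι.appTop := by
  rw [Scheme.Hom.preimage_sup, Scheme.preimage_basicOpen_top, Scheme.preimage_basicOpen_top]
  exact Theta44.bijective_ι_appTop _ _ (h.appTop f).left (h.appTop f).right

end Groth.Agent.Stack44Ext
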