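import Groth.Agent.Stack44Ext.Linear
import Groth.Agent.Stack44Ext.RegPair
import Groth.Agent.Theta44.QuotLifts

/-!
The atlas of a quotient category of an affine scheme with an invariant open, the complement of the zero locus of
a regular pair of functions.
-/

set_option autoImplicit false
set_option maxHeartbeats 1000000
set_option linter.style.haveILetI false
set_option linter.unusedSectionVars false
set_option backward.isDefEq.respectTransparency false
set_option backward.isDefEq.respectTransparency.types false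
universe u

open CategoryTheory CategoryTheory.Limits MonoidalCategory CartesianMonoidalCategory AlgebraicGeometry AlgSt FibCat
open Groth.Agent.AlgSt88 Groth.Agent.Theta44
open scoped MonObj GrpObj

namespace Groth.Agent.Stack44Ext

variable {S' S : Scheme.{u}} (h : S' ⟶ S) {G X : Over S'} [GrpObj G]

/-- The chart object at a point. -/
noncomputable abbrev chart (a : AlgGrp.Action G X) {Y : Over S'} (y : Y ⟶ X) :
    QuotObj Scheme.fppfPrecoverage G a :=
  (quotMap Scheme.fppfPrecoverage G a).obj ⟨Y, ⟨y⟩⟩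

/-- The morphism of chart objects. -/
noncomputable abbrev chartHom (a : AlgGrp.Action G X) {Y' Y : Over S'} (i : Y' ⟶ Y) (y' : Y' ⟶ X) (y : Y ⟶ X)
    (e : i ≫ y = y') : chart a y' ⟶ chart a y :=
  (quotMap Scheme.fppfPrecoverage G a).map (⟨i, congrArg ULift.up e⟩ : (⟨Y', ⟨y'⟩⟩ : (ofSch X).obj) ⟶ ⟨Y, ⟨y⟩⟩)

variable [Flat G.hom] [LocallyOfFinitePresentation G.hom] [IsAffineHom G.hom] [IsAffine X.left]
  (a : AlgGrp.Action G X) (V : X.left.Opens)

omit [LocallyOfFinitePresentation G.hom] [IsAffine X.left] in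
theorem flat_snd (Y : Over S') : Flat (snd G Y).left :=
  MorphismProperty.pullback_snd (P := @Flat) _ _ ‹_›

omit [LocallyOfFinitePresentation G.hom] [Flat G.hom] [IsAffine X.left] in
theorem isAffineHom_snd (Y : Over S') : IsAffineHom (snd G Y).left :=
  MorphismProperty.pullback_snd (P := @IsAffineHom) _ _ ‹_›

omit [LocallyOfFinitePresentation G.hom] [Flat G.hom] [IsAffine X.left] in
theorem isAffine_tensor (Y : Over S') [IsAffine Y.left] : IsAffine (G ⊗ Y).left :=
  haveI := isAffineHom_snd (G := G) Y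
  isAffine_of_isAffineHom (snd G Y).left

omit [IsAffine X.left] [IsAffineHom G.hom] in
theorem π_cancel (A : QuotObj Scheme.fppfPrecoverage G a) {Z : Over S'} {u v : A.base ⟶ Z}
    (e : A.π ≫ u = A.π ≫ v) : u = v := by
  haveI := flat_π ‹_› A
  haveI := lfp_π ‹_› A
  haveI := surjective_π A
  have hm : Theta44.FppfHom A.π := ⟨inferInstance, inferInstance, inferInstance⟩
  obtain ⟨t, -, ht⟩ := hm.desc (A.π ≫ u) fun b c hbc => by rw [reassoc_of% hbc]
  exact (ht u rfl).trans (ht v e.symm).symm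

omit [Flat G.hom] [LocallyOfFinitePresentation G.hom] [IsAffineHom G.hom] [IsAffine X.left] in
theorem tops_eq {P : Over S'} (s s' : P ⟶ G ⊗ (G ⊗ X)) (h1 : s ≫ (G ◁ a.act) = s' ≫ (G ◁ a.act))
    (h2 : s ≫ lift (fst G (G ⊗ X) * (snd G (G ⊗ X) ≫ fst G X)) (snd G (G ⊗ X) ≫ snd G X) =
      s' ≫ lift (fst G (G ⊗ X) * (snd G (G ⊗ X) ≫ fst G X)) (snd G (G ⊗ X) ≫ snd G X)) : s = s' := by
  have f1 := congrArg (· ≫ fst G X) h1
  simp only [Category.assoc, whiskerLeft_fst] at f1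
  have f2 := congrArg (· ≫ fst G X) h2
  have f3 := congrArg (· ≫ snd G X) h2
  simp only [Category.assoc, lift_fst, lift_snd, MonObj.comp_mul] at f2 f3
  rw [f1] at f2
  exact CartesianMonoidalCategory.hom_ext _ _ f1 (CartesianMonoidalCategory.hom_ext _ _
    (by simpa using mul_left_cancel f2) (by simpa using f3))

/-- The atlas of the quotient category with the open part. -/
theorem exists_quotAtlas (hinv : a.act.left ⁻¹ᵁ V = (snd G X).left ⁻¹ᵁ V) {p q : Γ(X.left, ⊤)}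
    (hpq : RegPair p q) (hV : V = X.left.basicOpen p ⊔ X.left.basicOpen q) :
    ∃ D : Atlas (ThetaS.overS h (QuotSt Scheme.fppfPrecoverage G a)) (Lands h a V),
      ∃ eV : D.A₀ = chart a (𝟙 X), ∃ eA : D.AV = chart a (Over.homMk V.ι rfl : Over.mk (V.ι ≫ X.hom) ⟶ X),
        D.j₀ = eqToHom eA ≫ chartHom a (Over.homMk V.ι rfl) _ (𝟙 X) (Category.comp_id _) ≫ eqToHom eV.symm := by
  haveI := isAffine_tensor (G := G) X
  haveI := isAffine_tensor (G := G) (G ⊗ X)
  haveI := flat_snd (G := G) X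
  haveI := flat_snd (G := G) (G ⊗ X)
  have hT := isFibGrpd_overS h (isFibGrpd_quotSt (K := Scheme.fppfPrecoverage) a)
  let 𝒯 := ThetaS.overS h (QuotSt Scheme.fppfPrecoverage G a)
  let A₀ : 𝒯.obj := chart a (𝟙 X)
  have hA₀φ : (chart a (𝟙 X)).φ = a.act := by
    change (G ◁ 𝟙 X) ≫ a.act = a.act
    simp
  have hPiff : ∀ {A : 𝒯.obj} (k : A ⟶ A₀), Lands h a V A ↔ Set.range k.base.left ⊆ (V : Set X.left) := by
    intro A k
    haveI := surjective_π A
    have e1 : A.φ = k.top ≫ a.act := by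
      rw [← hA₀φ]
      exact k.wφ.symm
    have ew : k.top ≫ snd G X = A.π ≫ k.base := k.cart.w
    have h1 : A.φ.left ⁻¹ᵁ V = (A.π.left ≫ k.base.left) ⁻¹ᵁ V := by
      rw [← Over.comp_left, ← ew, e1, Over.comp_left, Over.comp_left, Scheme.Hom.comp_preimage,
        Scheme.Hom.comp_preimage, hinv]
    unfold Lands
    rw [h1]
    constructor
    · rintro e _ ⟨x, rfl⟩
      obtain ⟨y, rfl⟩ := A.π.left.surjective x
      have : y ∈ (A.π.left ≫ k.base.left) ⁻¹ᵁ V := by rw [e]; trivial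
      exact this
    · intro e
      rw [eq_top_iff]
      intro y _
      exact e ⟨A.π.left y, rfl⟩
  have hmap : ∀ {A B : 𝒯.obj} (k k' : A ⟶ B), k.base = k'.base → 𝒯.p.map k = 𝒯.p.map k' := fun k k' e =>
    congrArg (fun t => (Over.map h).map t) e
  have hopen : ∀ {Y : Over S'} (y : Y ⟶ X) (U : Y.left.Opens) {A : 𝒯.obj} (k : A ⟶ chart a y),
      Set.range k.base.left ⊆ (U : Set Y.left) →
      ∃ q : A ⟶ chart a ((Over.homMk U.ι rfl : Over.mk (U.ι ≫ Y.hom) ⟶ Y) ≫ y),
        q ≫ chartHom a (Over.homMk U.ι rfl) _ y rfl = k := by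
    intro Y y U A k hk
    have hr : Set.range k.base.left ⊆ Set.range U.ι := by rwa [Scheme.Opens.range_ι]
    let g' : A.base ⟶ Over.mk (U.ι ≫ Y.hom) := Over.homMk (IsOpenImmersion.lift U.ι k.base.left hr) (by
      show _ ≫ U.ι ≫ Y.hom = _
      rw [IsOpenImmersion.lift_fac_assoc]
      exact Over.w k.base)
    obtain ⟨q, hq, hq'⟩ := fg_exists_fac (isFibGrpd_quotSt (K := Scheme.fppfPrecoverage) a)
      (chartHom a (Over.homMk U.ι rfl : Over.mk (U.ι ≫ Y.hom) ⟶ Y) _ y rfl) k g'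
      (Over.OverMorphism.ext (IsOpenImmersion.lift_fac _ _ hr))
    exact ⟨q, hq'⟩
  let A₁ : 𝒯.obj := chart a a.act
  let n₁ : A₁ ⟶ A₀ := chartHom a a.act _ (𝟙 X) (Category.comp_id _)
  obtain ⟨n₂, hn₂, hn₂'⟩ : ∃ n₂ : A₁ ⟶ A₀, n₂.base = snd G X ∧
      n₂.top = lift (fst G (G ⊗ X) * (snd G (G ⊗ X) ≫ fst G X)) (snd G (G ⊗ X) ≫ snd G X) :=
    (exists_quot_hom_over a (snd G X) a.act (𝟙 X)).2 (fst G X) (by simp)
  have hn : ∀ {A : 𝒯.obj} (k k' : A ⟶ A₀), ∃ q : A ⟶ A₁, q ≫ n₁ = k ∧ q ≫ n₂ = k' := by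
    intro A k k'
    let y : A.base ⟶ X := k.base
    let y' : A.base ⟶ X := k'.base
    let t : chart a y ⟶ A₀ := chartHom a y y (𝟙 X) (Category.comp_id y)
    obtain ⟨i, hi, hi'⟩ := exists_quot_iso_fac (a := a) k t (Iso.refl A.base) (Category.id_comp _)
    have hj : i.inv.base = 𝟙 A.base := by
      have e : i.hom.base ≫ i.inv.base = 𝟙 A.base := congrArg (fun s => s.base) i.hom_inv_id
      rw [hi] at e
      exact (Category.id_comp _).symm.trans e
    obtain ⟨g, hg, hg'⟩ : ∃ g : A.base ⟶ G, lift g (y' ≫ 𝟙 X) ≫ a.act = y ∧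
        (i.inv ≫ k').top = lift (fst G A.base * (snd G A.base ≫ g)) (snd G A.base ≫ y') :=
      (exists_quot_hom_over a y' y (𝟙 X)).1 (i.inv ≫ k') (by
        show i.inv.base ≫ k'.base = k'.base
        rw [hj]; exact Category.id_comp _)
    rw [Category.comp_id] at hg
    let q₀ : chart a y ⟶ A₁ := chartHom a (lift g y') y a.act hg
    refine ⟨i.hom ≫ q₀, ?_, ?_⟩
    · rw [Category.assoc, ← hi']
      congr 1
      refine QuotObj.hom_ext hg ?_
      change (G ◁ lift g y') ≫ (G ◁ a.act) = G ◁ y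
      rw [← MonoidalCategory.whiskerLeft_comp, hg]
    · rw [Category.assoc, ← Iso.eq_inv_comp]
      refine QuotObj.hom_ext ?_ ?_
      · change lift g y' ≫ n₂.base = i.inv.base ≫ k'.base
        rw [hn₂, hj]
        exact (lift_snd g y').trans (Category.id_comp y').symm
      · change (G ◁ lift g y') ≫ n₂.top = (i.inv ≫ k').top
        rw [hn₂', hg']
        show (G ◁ lift g y') ≫ lift (fst G (G ⊗ X) * (snd G (G ⊗ X) ≫ fst G X)) (snd G (G ⊗ X) ≫ snd G X) =
          lift (fst G A.base * (snd G A.base ≫ g)) (snd G A.base ≫ y')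
        apply CartesianMonoidalCategory.hom_ext <;> simp [MonObj.comp_mul]
  have hnu : ∀ {A : 𝒯.obj} (r r' : A ⟶ A₁), r ≫ n₁ = r' ≫ n₁ → r ≫ n₂ = r' ≫ n₂ → r = r' := by
    intro A r r' e1 e2
    have t1 : r.top ≫ (G ◁ a.act) = r'.top ≫ (G ◁ a.act) := congrArg (fun s => s.top) e1
    have t2 : r.top ≫ n₂.top = r'.top ≫ n₂.top := congrArg (fun s => s.top) e2
    rw [hn₂'] at t2
    have et : r.top = r'.top := tops_eq a r.top r'.top t1 t2
    refine QuotObj.hom_ext (π_cancel a A ?_) et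
    exact r.cart.w.symm.trans ((congrArg (· ≫ snd G (G ⊗ X)) et).trans r'.cart.w)
  -- the open part of the double overlap
  let W : (G ⊗ X).left.Opens := a.act.left ⁻¹ᵁ V
  let W₂ : (G ⊗ (G ⊗ X)).left.Opens := ((G ◁ a.act) ≫ a.act).left ⁻¹ᵁ V
  have hW₂ : W₂ = ((snd G (G ⊗ X)).left ≫ (snd G X).left) ⁻¹ᵁ V := by
    show ((G ◁ a.act) ≫ a.act).left ⁻¹ᵁ V = _
    rw [Over.comp_left, Scheme.Hom.comp_preimage, hinv, ← Scheme.Hom.comp_preimage, ← Over.comp_left,
      whiskerLeft_snd, Over.comp_left, Scheme.Hom.comp_preimage, hinv, ← Scheme.Hom.comp_preimage]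
  let A₂ : 𝒯.obj := chart a ((G ◁ a.act) ≫ a.act)
  let m₀₁ : A₂ ⟶ A₁ := chartHom a (G ◁ a.act) _ a.act rfl
  obtain ⟨m₁₂, hm₁₂, hm₁₂'⟩ : ∃ m₁₂ : A₂ ⟶ A₁, m₁₂.base = snd G (G ⊗ X) ∧ m₁₂ ≫ n₁ = m₀₁ ≫ n₂ := by
    refine fg_exists_fac (isFibGrpd_quotSt (K := Scheme.fppfPrecoverage) a) n₁ (m₀₁ ≫ n₂) (snd G (G ⊗ X)) ?_
    show snd G (G ⊗ X) ≫ a.act = (G ◁ a.act) ≫ n₂.base
    exact (whiskerLeft_snd G a.act).symm.trans (congrArg ((G ◁ a.act) ≫ ·) hn₂.symm)
  let l : Fin 3 → (A₂ ⟶ A₀) := ![m₀₁ ≫ n₁, m₀₁ ≫ n₂, m₁₂ ≫ n₂]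
  have hdown : ∀ {A A' : 𝒯.obj} (_ : A' ⟶ A), Lands h a V A → Lands h a V A' := fun m => lands_down h a V m
  let oV : Over.mk (V.ι ≫ X.hom) ⟶ X := Over.homMk V.ι rfl
  let oW : Over.mk (W.ι ≫ (G ⊗ X).hom) ⟶ G ⊗ X := Over.homMk W.ι rfl
  let oW₂ : Over.mk (W₂.ι ≫ (G ⊗ (G ⊗ X)).hom) ⟶ G ⊗ (G ⊗ X) := Over.homMk W₂.ι rfl
  have hVb : Function.Bijective V.ι.appTop := by
    subst hV
    exact Theta44.bijective_ι_appTop _ _ hpq.left hpq.right
  have hWb : Function.Bijective W.ι.appTop := by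
    show Function.Bijective (a.act.left ⁻¹ᵁ V).ι.appTop
    rw [hinv, hV]
    exact hpq.bijective_preimage _
  have hW₂b : Function.Injective W₂.ι.appTop := by
    rw [hW₂, hV]
    exact (hpq.bijective_preimage _).1
  let D : Atlas 𝒯 (Lands h a V) :=
    { fib := hT
      down := hdown
      A₀ := A₀
      aff₀ := inferInstanceAs (IsAffine X.left)
      AV := chart a oV
      j₀ := chartHom a oV _ (𝟙 X) (Category.comp_id _)
      pV := (hPiff (chartHom a oV _ (𝟙 X) (Category.comp_id _))).2 (by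
        rintro _ ⟨y, rfl⟩
        exact y.2)
      bij₀ := hVb
      fac₀ := fun {A} k hA => by
        have hk := (hPiff k).1 hA
        obtain ⟨r, hr⟩ := hopen (𝟙 X) V k hk
        refine ⟨r ≫ chartHom a (𝟙 _) _ oV (by simp [oV]), ?_, fun r' hr' => ?_⟩
        · show (r ≫ chartHom a (𝟙 _) _ oV _) ≫ chartHom a oV _ (𝟙 X) _ = k
          rw [Category.assoc, ← hr]
          congr 1
          exact QuotObj.hom_ext (Category.id_comp _) ((congrArg (· ≫ _) (MonoidalCategory.whiskerLeft_id _ _)).trans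
            (Category.id_comp _))
        · refine fg_hom_ext (isFibGrpd_quotSt (K := Scheme.fppfPrecoverage) a)
            (chartHom a oV _ (𝟙 X) (Category.comp_id _)) ?_ (hr'.trans ?_)
          · haveI : Mono oV := Over.mono_of_mono_left _
            apply (cancel_mono oV).1
            refine (congrArg (fun s => s.base) hr').trans ?_
            refine (congrArg (fun s => s.base) hr).symm.trans ?_
            show r.base ≫ oV = (r.base ≫ 𝟙 (Over.mk (V.ι ≫ X.hom))) ≫ oV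
            exact congrArg (· ≫ oV) (Category.comp_id r.base).symm
          · rw [Category.assoc, ← hr]
            congr 1
            exact (QuotObj.hom_ext (Category.id_comp _) ((congrArg (· ≫ _) (MonoidalCategory.whiskerLeft_id _ _)).trans
              (Category.id_comp _))).symm
      loc := fun A => by
        let w' : (⟨A.P, ⟨𝟙 A.P ≫ A.φ⟩⟩ : (ofSch X).obj) ⟶ ⟨X, ⟨𝟙 X⟩⟩ :=
          ⟨A.φ, congrArg ULift.up ((Category.comp_id A.φ).trans (Category.id_comp A.φ).symm)⟩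
        refine ⟨_, pointHom A (𝟙 A.P), (quotMap Scheme.fppfPrecoverage G a).map w', ?_⟩
        have e : (𝟙 A.P ≫ A.π).left = A.π.left := by rw [Category.id_comp]
        exact ⟨e ▸ flat_π ‹_› A, e ▸ lfp_π ‹_› A, e ▸ surjective_π A⟩
      A₁ := A₁
      n₁ := n₁
      n₂ := n₂
      aff₁ := inferInstanceAs (IsAffine (G ⊗ X).left)
      pair := fun k k' => by
        obtain ⟨r, h1, h2⟩ := hn k k'
        exact ⟨r, ⟨h1, h2⟩, fun r' e => hnu r' r (e.1.trans h1.symm) (e.2.trans h2.symm)⟩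
      AW := chart a (oW ≫ a.act)
      j₁ := chartHom a oW _ a.act rfl
      pW := (hPiff (chartHom a oW _ a.act rfl ≫ n₁)).2 (by
        rintro _ ⟨y, rfl⟩
        exact y.2)
      bij₁ := hWb
      fac₁ := fun {A} r hA => hopen a.act W r (by
        rintro _ ⟨y, rfl⟩
        exact (hPiff (r ≫ n₁)).1 hA ⟨y, rfl⟩)
      A₂ := A₂
      l := l
      aff₂ := inferInstanceAs (IsAffine (G ⊗ (G ⊗ X)).left)
      triple := fun {A} k => by
        obtain ⟨r₁, a1, a2⟩ := hn (k 0) (k 1)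
        obtain ⟨r₂, b1, b2⟩ := hn (k 1) (k 2)
        let rb : A.base ⟶ G ⊗ (G ⊗ X) := lift (r₁.base ≫ fst G X) r₂.base
        have hrb : rb ≫ (G ◁ a.act) = r₁.base := by
          have e : r₁.base ≫ snd G X = r₂.base ≫ a.act := by
            have := congrArg (fun s => s.base) (a2.trans b1.symm)
            rw [show (r₁ ≫ n₂).base = r₁.base ≫ n₂.base from rfl, hn₂] at this
            exact this
          apply CartesianMonoidalCategory.hom_ext
          · simp [rb]
          · simp [rb, e]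
        obtain ⟨r, hr, hr'⟩ := fg_exists_fac (isFibGrpd_quotSt (K := Scheme.fppfPrecoverage) a) m₀₁ r₁ rb hrb
        have e12 : r ≫ m₁₂ = r₂ := by
          refine fg_hom_ext (isFibGrpd_quotSt (K := Scheme.fppfPrecoverage) a) n₁ ?_ ?_
          · change r.base ≫ m₁₂.base = r₂.base
            rw [hm₁₂, show r.base = rb from hr]
            exact lift_snd _ _
          · rw [Category.assoc, hm₁₂', ← Category.assoc, hr', a2, b1]
        refine ⟨r, fun i => ?_⟩
        fin_cases i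
        · show r ≫ m₀₁ ≫ n₁ = k 0
          rw [← Category.assoc, hr', a1]
        · show r ≫ m₀₁ ≫ n₂ = k 1
          rw [← Category.assoc, hr', a2]
        · show r ≫ m₁₂ ≫ n₂ = k 2
          rw [← Category.assoc, e12, b2]
      AW₂ := chart a (oW₂ ≫ (G ◁ a.act) ≫ a.act)
      j₂ := chartHom a oW₂ _ ((G ◁ a.act) ≫ a.act) rfl
      pW₂ := (hPiff (chartHom a oW₂ _ ((G ◁ a.act) ≫ a.act) rfl ≫ m₀₁ ≫ n₁)).2 (by
        rintro _ ⟨y, rfl⟩
        exact y.2)
      inj₂ := hW₂b }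
  exact ⟨D, rfl, rfl, by rw [eqToHom_refl, eqToHom_refl, Category.id_comp, Category.comp_id]⟩

end Groth.Agent.Stack44Ext
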