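import Groth.Agent.Stack44Ext.Linear
import Groth.Agent.Fib44.DenseExtend
import Groth.Agent.Fib44.Repr2
import Groth.Agent.AlgSt88.Substack

/-!
Squares against the inclusion of an open part of a category with an affine atlas fill uniquely into a stack with
affine diagonal, as soon as the object on the chart of the open part extends to the atlas.
-/

set_option autoImplicit false
set_option maxHeartbeats 1000000
set_option linter.style.haveILetI false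
set_option linter.unusedSectionVars false
set_option backward.isDefEq.respectTransparency false
set_option backward.isDefEq.respectTransparency.types false
universe u

open CategoryTheory CategoryTheory.Limits AlgebraicGeometry AlgSt FibCat
open Groth.Agent.AlgSt88 Groth.Agent.Theta44

namespace Groth.Agent.Stack44Ext

section Restr

universe v₄ u₄ v₃ u₃ v₂ u₂ v

variable {C : Type u} [Category.{v} C] {J : GrothendieckTopology C}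
variable {𝒜 : BasedCategory.{v₂, u₂} C} {ℬ : BasedCategory.{v₃, u₃} C} {𝒳 : BasedCategory.{v₄, u₄} C}
  {inc : 𝒜 ⥤ᵇ ℬ} [inc.toFunctor.Full] [inc.toFunctor.Faithful]
  (h𝒳 : Stk.IsStack J 𝒳) (hB : FibCat.IsFibGrpd ℬ.p)
  (hA' : ∀ {a : 𝒜.obj} {V : C} (g : V ⟶ 𝒜.p.obj a),
      ∃ (a' : 𝒜.obj) (k : a' ⟶ a), 𝒜.p.IsHomLift g k)
  (hd : ∀ b : ℬ.obj, ∃ R ∈ J (ℬ.p.obj b), ∀ ⦃V : C⦄ (g : V ⟶ ℬ.p.obj b), R g →
      ∃ (a : 𝒜.obj) (m : inc.obj a ⟶ b), ℬ.p.IsHomLift g m)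
include h𝒳 hB hA' hd

/-- Morphisms of restrictions along a dense subcategory extend. -/
theorem exists_natTrans_of_restr (Φ Φ' : ℬ ⥤ᵇ 𝒳)
    (α : BasedFunctor.comp inc Φ ⟶ BasedFunctor.comp inc Φ') :
    ∃ β : Φ ⟶ Φ', ∀ a, β.toNatTrans.app (inc.obj a) = α.toNatTrans.app a := by
  have hR : ∀ b, Fib44.preSieve inc hA' b ∈ J (ℬ.p.obj b) := fun b => by
    obtain ⟨R, hR, h⟩ := hd b
    exact J.superset_covering (fun V g hg => h g hg) hR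
  let G : 𝒜 ⥤ᵇ 𝒳 := BasedFunctor.comp inc Φ
  have hl : ∀ (Ψ : ℬ ⥤ᵇ 𝒳) {b' b : ℬ.obj} (n : b' ⟶ b), 𝒳.p.IsHomLift (ℬ.p.map n) (Ψ.map n) :=
    fun Ψ b' b n => Fib44.based_isHomLift_self Ψ n
  let Q : ∀ b : ℬ.obj, Fib44.Coc inc G b := fun b =>
    ⟨Φ.obj b, Φ.w_obj b, fun a m => Φ.map m, fun a m => hl Φ m,
      fun a' a k m => (Φ.toFunctor.map_comp _ _).symm⟩
  let Q' : ∀ b : ℬ.obj, Fib44.Coc inc G b := fun b =>
    ⟨Φ'.obj b, Φ'.w_obj b, fun a m => α.toNatTrans.app a ≫ Φ'.map m,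
      fun a m => by
        haveI := Fib44.lift_id_of_eq 𝒳.p (inc.w_obj a).symm
          (Fib44.lift_id_of_eq 𝒳.p ((Φ.w_obj _).trans (inc.w_obj a)) (show 𝒳.p.IsHomLift
            (𝟙 (𝒳.p.obj (Φ.obj (inc.obj a)))) (α.toNatTrans.app a) from
            Fib44.lift_id_of_eq 𝒳.p ((Φ.w_obj _).trans (inc.w_obj a)).symm (α.isHomLift' a)))
        haveI := hl Φ' m
        exact IsHomLift.comp_lift_id_left 𝒳.p _ _ _,
      fun a' a k m => by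
        have e := α.toNatTrans.naturality k
        change Φ.map (inc.map k) ≫ _ = _ ≫ Φ'.map (inc.map k) at e
        change Φ.map (inc.map k) ≫ α.toNatTrans.app a ≫ Φ'.map m = _
        rw [← Category.assoc, e, Category.assoc, ← Φ'.toFunctor.map_comp]⟩
  choose k hk hku using fun b : ℬ.obj => Fib44.existsUnique_coc_hom hB hA' h𝒳 hR (Q b) (Q' b) (𝟙 b)
  have hk1 : ∀ b, 𝒳.p.IsHomLift (𝟙 (ℬ.p.obj b)) (k b) := fun b => by
    have := (hk b).1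
    rwa [ℬ.p.map_id] at this
  let β : Φ ⟶ Φ' :=
    ⟨{ app := k
       naturality := fun b' b n => by
        obtain ⟨k', -, hu⟩ := Fib44.existsUnique_coc_hom hB hA' h𝒳 hR (Q b') (Q' b) n
        refine (hu _ ⟨?_, fun a m => ?_⟩).trans (hu _ ⟨?_, fun a m => ?_⟩).symm
        · haveI := hk1 b
          haveI := hl Φ n
          exact IsHomLift.comp_lift_id_right 𝒳.p _ _ _
        · change Φ.map m ≫ Φ.map n ≫ k b = _
          rw [← Category.assoc, ← Φ.toFunctor.map_comp]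
          refine ((hk b).2 a (m ≫ n)).trans ?_
          rw [Category.comp_id]
        · haveI := hk1 b'
          haveI := hl Φ' n
          exact IsHomLift.comp_lift_id_left 𝒳.p _ _ _
        · change Φ.map m ≫ k b' ≫ Φ'.map n = α.toNatTrans.app a ≫ Φ'.map (m ≫ n)
          rw [← Category.assoc]
          refine (congrArg (· ≫ Φ'.map n) ((hk b').2 a m)).trans ?_
          change (α.toNatTrans.app a ≫ Φ'.map (m ≫ 𝟙 b')) ≫ Φ'.map n = _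
          rw [Category.comp_id, Category.assoc, ← Φ'.toFunctor.map_comp] }, hk1⟩
  refine ⟨β, fun a => ?_⟩
  have e := (hk (inc.obj a)).2 a (𝟙 _)
  change Φ.map (𝟙 (inc.obj a)) ≫ k (inc.obj a) = α.toNatTrans.app a ≫ Φ'.map (𝟙 (inc.obj a) ≫ 𝟙 (inc.obj a)) at e
  rw [Category.comp_id, Φ.toFunctor.map_id, Category.id_comp, Φ'.toFunctor.map_id] at e
  exact e.trans (Category.comp_id _)

omit [inc.toFunctor.Full] [inc.toFunctor.Faithful] hA' in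
/-- Morphisms agreeing on a dense subcategory agree. -/
theorem natTrans_ext_of_restr {Φ Φ' : ℬ ⥤ᵇ 𝒳} (β β' : Φ ⟶ Φ')
    (h : ∀ a, β.toNatTrans.app (inc.obj a) = β'.toNatTrans.app (inc.obj a)) : β = β' := by
  refine Fib44.basedNatTrans_ext fun b => ?_
  obtain ⟨R, hR, hRb⟩ := hd b
  haveI := β.isHomLift' b
  haveI := β'.isHomLift' b
  refine Fib44.hom_ext_of_lifts h𝒳.1 ((Fib44.isStack_iff.1 h𝒳).2 R hR).1 (Φ.w_obj b) (𝟙 (ℬ.p.obj b))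
    (β.toNatTrans.app b) (β'.toNatTrans.app b) fun V g hg => ?_
  obtain ⟨a, m, hm⟩ := hRb g hg
  refine ⟨Φ.obj (inc.obj a), Φ.map m, BasedFunctor.preserves_isHomLift Φ g m, ?_⟩
  exact (β.toNatTrans.naturality m).trans ((congrArg (· ≫ Φ'.map m) (h a)).trans
    (β'.toNatTrans.naturality m).symm)

end Restr

variable {S : Scheme.{u}}

theorem self_natTrans_ext {𝒯 : AlgSt.Cat S} {A B : 𝒯 ⥤ᵇ selfOver (Over S)} (η η' : A ⟶ B) : η = η' :=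
  Fib44.basedNatTrans_ext fun a => by
    haveI := η.isHomLift' a
    haveI := η'.isHomLift' a
    exact Fib44.self_hom_ext (𝟙 (𝒯.p.obj a)) _ _

theorem exists_self_natIso {𝒯 : AlgSt.Cat S} (A B : 𝒯 ⥤ᵇ selfOver (Over S)) : Nonempty (A ≅ B) := by
  have hl : ∀ a : 𝒯.obj, (selfOver (Over S)).p.IsHomLift (𝟙 (𝒯.p.obj a))
      (eqToHom ((A.w_obj a).trans (B.w_obj a).symm) : A.obj a ⟶ B.obj a) := fun a =>
    IsHomLift.of_fac' _ _ _ (A.w_obj a) (B.w_obj a) (by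
      refine (eqToHom_map (selfOver (Over S)).p _).trans ?_
      simp)
  have hn : ∀ {a b : 𝒯.obj} (m : a ⟶ b), A.map m ≫ eqToHom ((A.w_obj b).trans (B.w_obj b).symm) =
      eqToHom ((A.w_obj a).trans (B.w_obj a).symm) ≫ B.map m := by
    intro a b m
    haveI := hl a
    haveI := hl b
    haveI : (selfOver (Over S)).p.IsHomLift (𝒯.p.map m) (A.map m) := Fib44.based_isHomLift_self A m
    haveI : (selfOver (Over S)).p.IsHomLift (𝒯.p.map m) (B.map m) := Fib44.based_isHomLift_self B m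
    haveI : (selfOver (Over S)).p.IsHomLift (𝒯.p.map m)
        (A.map m ≫ eqToHom ((A.w_obj b).trans (B.w_obj b).symm) : A.obj a ⟶ B.obj b) :=
      IsHomLift.comp_lift_id_right _ _ _ _
    haveI : (selfOver (Over S)).p.IsHomLift (𝒯.p.map m)
        (eqToHom ((A.w_obj a).trans (B.w_obj a).symm) ≫ B.map m : A.obj a ⟶ B.obj b) :=
      IsHomLift.comp_lift_id_left _ _ _ _
    exact Fib44.self_hom_ext (𝒯.p.map m) _ _
  exact ⟨BasedNatIso.mkNatIso (NatIso.ofComponents (fun a => eqToIso ((A.w_obj a).trans (B.w_obj a).symm))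
    (fun m => hn m)) fun a => hl a⟩

theorem sieve_mem_of_fppfHom {T : Over S} {W : Over S} {g : W ⟶ T} (hg : FppfHom g) :
    Sieve.generate (Presieve.singleton g) ∈ AlgSp.J S T := by
  rw [GrothendieckTopology.mem_over_iff, Sieve.overEquiv_generate]
  haveI := hg.flat
  haveI := hg.lfp
  haveI := hg.surj
  refine GrothendieckTopology.superset_covering _ ?_
    (Precoverage.generate_mem_toGrothendieck (Scheme.Hom.singleton_mem_fppfPrecoverage g.left))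
  rw [Sieve.generate_le_iff]
  rintro Z f ⟨⟩
  exact Sieve.le_generate _ _ _ ⟨W, g, 𝟙 _, ⟨⟩, by simp⟩

variable {𝒯 𝒳 : AlgSt.Cat S} {P : 𝒯.obj → Prop} (D : Atlas 𝒯 P)

/-- The objects with a morphism to the atlas. -/
def Loc (B : 𝒯.obj) : Prop := Nonempty (B ⟶ D.A₀)

/-- Every object is covered by objects with a morphism to the atlas. -/
theorem exists_cover (b : 𝒯.obj) : ∃ R ∈ AlgSp.J S (𝒯.p.obj b), ∀ ⦃V : Over S⦄ (g : V ⟶ 𝒯.p.obj b), R g →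
    ∃ (a : 𝒯.obj) (m : a ⟶ b), Loc D a ∧ 𝒯.p.IsHomLift g m := by
  obtain ⟨b', m, k, hm⟩ := D.loc b
  refine ⟨_, sieve_mem_of_fppfHom hm, fun V g hg => ?_⟩
  obtain ⟨Y, q, g', ⟨⟩, rfl⟩ := hg
  obtain ⟨a, n, hn⟩ := Fib44.exists_lift' 𝒯.p D.fib rfl q
  haveI := hn
  exact ⟨a, n ≫ m, ⟨n ≫ k⟩, inferInstance⟩

theorem cover_loc (b : 𝒯.obj) : ∃ R ∈ AlgSp.J S (𝒯.p.obj b), ∀ ⦃V : Over S⦄ (g : V ⟶ 𝒯.p.obj b), R g →
    ∃ (a : (AlgSt.fullSub 𝒯 (Loc D)).obj) (m : (AlgSt.subIncl 𝒯 (Loc D)).obj a ⟶ b), 𝒯.p.IsHomLift g m := by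
  obtain ⟨R, hR, h⟩ := exists_cover D b
  refine ⟨R, hR, fun V g hg => ?_⟩
  obtain ⟨a, m, ha, hm⟩ := h g hg
  exact ⟨⟨a, ha⟩, m, hm⟩

instance : (AlgSt.subIncl 𝒯 (Loc D)).toFunctor.Full := inferInstanceAs (ObjectProperty.ι (Loc D)).Full

instance : (AlgSt.subIncl 𝒯 (Loc D)).toFunctor.Faithful := inferInstanceAs (ObjectProperty.ι (Loc D)).Faithful

instance : (AlgSt.subIncl (AlgSt.fullSub 𝒯 P) (fun b => Loc D b.obj)).toFunctor.Full :=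
  inferInstanceAs (ObjectProperty.ι (fun b : (AlgSt.fullSub 𝒯 P).obj => Loc D b.obj)).Full

instance : (AlgSt.subIncl (AlgSt.fullSub 𝒯 P) (fun b => Loc D b.obj)).toFunctor.Faithful :=
  inferInstanceAs (ObjectProperty.ι (fun b : (AlgSt.fullSub 𝒯 P).obj => Loc D b.obj)).Faithful

/-- The open part of the objects with a morphism to the atlas. -/
abbrev LocP (b : (AlgSt.fullSub 𝒯 P).obj) : Prop := Loc D b.obj

theorem cover_locP (b : (AlgSt.fullSub 𝒯 P).obj) :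
    ∃ R ∈ AlgSp.J S ((AlgSt.fullSub 𝒯 P).p.obj b), ∀ ⦃V : Over S⦄ (g : V ⟶ (AlgSt.fullSub 𝒯 P).p.obj b), R g →
      ∃ (a : (AlgSt.fullSub (AlgSt.fullSub 𝒯 P) (LocP D)).obj)
        (m : (AlgSt.subIncl _ (LocP D)).obj a ⟶ b), (AlgSt.fullSub 𝒯 P).p.IsHomLift g m := by
  obtain ⟨R, hR, h⟩ := exists_cover D b.obj
  refine ⟨R, hR, fun V g hg => ?_⟩
  obtain ⟨a, m, ha, hm⟩ := h g hg
  let m' : (⟨a, D.down m b.property⟩ : (AlgSt.fullSub 𝒯 P).obj) ⟶ b := ⟨m⟩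
  exact ⟨⟨⟨a, D.down m b.property⟩, ha⟩, m', IsHomLift.of_fac' _ _ _
    (IsHomLift.domain_eq 𝒯.p g m) rfl (IsHomLift.fac' 𝒯.p g m)⟩

theorem locP_down {A A' : (AlgSt.fullSub 𝒯 P).obj} (m : A' ⟶ A) (h : LocP D A) : LocP D A' :=
  ⟨m.hom ≫ h.some⟩

theorem loc_down {A A' : 𝒯.obj} (m : A' ⟶ A) (h : Loc D A) : Loc D A' := ⟨m ≫ h.some⟩

variable {D} {F : AlgSt.fullSub 𝒯 P ⥤ᵇ 𝒳} {E : Ext D F}

/-- The extension on the objects with a morphism to the atlas. -/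
theorem exists_loc_functor (hX : IsFibGrpd 𝒳.p) (L : Lin E) :
    ∃ G : AlgSt.fullSub 𝒯 (Loc D) ⥤ᵇ 𝒳, ∃ c : ∀ (a : (AlgSt.fullSub 𝒯 (Loc D)).obj) (h : P a.obj),
        F.obj ⟨a.obj, h⟩ ⟶ G.obj a,
      (∀ a h, 𝒳.p.IsHomLift (𝟙 (𝒯.p.obj a.obj)) (c a h)) ∧
      ∀ {a b : (AlgSt.fullSub 𝒯 (Loc D)).obj} (ν : a ⟶ b) (ha : P a.obj) (hb : P b.obj),
        F.map (⟨ν.hom⟩ : (⟨a.obj, ha⟩ : (AlgSt.fullSub 𝒯 P).obj) ⟶ ⟨b.obj, hb⟩) ≫ c b hb = c a ha ≫ G.map ν := by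
  let k : ∀ a : (AlgSt.fullSub 𝒯 (Loc D)).obj, a.obj ⟶ D.A₀ := fun a => a.property.some
  have hover : 𝒳.p.obj E.ξ = 𝒯.p.obj D.A₀ := by
    have := E.lift
    exact IsHomLift.codomain_eq 𝒳.p (𝒯.p.map D.j₀) E.μ
  choose y u hu using fun a => Fib44.exists_lift' 𝒳.p hX hover (𝒯.p.map (k a))
  have hw : ∀ {a b : (AlgSt.fullSub 𝒯 (Loc D)).obj} (ν : a ⟶ b), ∃ w : y a ⟶ y b,
      (𝒳.p.IsHomLift (𝒯.p.map ν.hom) w ∧ w ≫ u b = L.ρ (k a) (ν.hom ≫ k b) (u a) (hu a)) ∧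
      ∀ w', 𝒳.p.IsHomLift (𝒯.p.map ν.hom) w' → w' ≫ u b = L.ρ (k a) (ν.hom ≫ k b) (u a) (hu a) → w' = w :=
    fun {a b} ν => IsoNat97.exists_fac hX (𝒯.p.map ν.hom) (k := 𝒯.p.map (ν.hom ≫ k b))
      (g := 𝒯.p.map (k b)) (Functor.map_comp _ _ _).symm (u b) (hu b) _ (L.lift _ _ _ _)
  choose w hw hwu using @hw
  have hcongr : ∀ {B : 𝒯.obj} (k₀ k₁ k₁' : B ⟶ D.A₀) {z : 𝒳.obj} (v : z ⟶ E.ξ)
      (hv : 𝒳.p.IsHomLift (𝒯.p.map k₀) v), k₁ = k₁' → L.ρ k₀ k₁ v hv = L.ρ k₀ k₁' v hv := by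
    rintro B k₀ k₁ k₁' z v hv rfl
    rfl
  let G : AlgSt.fullSub 𝒯 (Loc D) ⥤ᵇ 𝒳 :=
    { toFunctor :=
        { obj := y
          map := fun {a b} ν => w ν
          map_id := fun a => by
            refine (hwu _ _ ?_ ?_).symm
            · change 𝒳.p.IsHomLift (𝒯.p.map (𝟙 a.obj)) _
              rw [𝒯.p.map_id]
              exact IsHomLift.id (IsHomLift.domain_eq 𝒳.p (𝒯.p.map (k a)) (u a))
            · change _ = L.ρ (k a) (𝟙 a.obj ≫ k a) (u a) (hu a)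
              rw [hcongr (k a) _ (k a) (u a) (hu a) (Category.id_comp _), L.refl]
              exact Category.id_comp _
          map_comp := fun {a b c} ν μ => by
            refine (hwu (ν ≫ μ) _ ?_ ?_).symm
            · haveI := (hw ν).1
              haveI := (hw μ).1
              change 𝒳.p.IsHomLift (𝒯.p.map (ν.hom ≫ μ.hom)) _
              rw [Functor.map_comp]
              infer_instance
            · have h1 := lift_comp (E := E) hX ν.hom (k b) (w ν) (hw ν).1 (u b) (hu b)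
              rw [Category.assoc, (hw μ).2, ← L.natural ν.hom (k b) (μ.hom ≫ k c) (w ν) (hw ν).1 (u b) (hu b) h1,
                hcongr (k a) ((ν ≫ μ).hom ≫ k c) (ν.hom ≫ μ.hom ≫ k c) (u a) (hu a) (Category.assoc _ _ _)]
              have h2 : 𝒳.p.IsHomLift (𝒯.p.map (ν.hom ≫ k b)) (L.ρ (k a) (ν.hom ≫ k b) (u a) (hu a)) :=
                L.lift _ _ _ _
              rw [← L.trans (k a) (ν.hom ≫ k b) (ν.hom ≫ μ.hom ≫ k c) (u a) (hu a) h2]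
              congr 1
              exact (hw ν).2 }
      w := CategoryTheory.Functor.ext (fun a => IsHomLift.domain_eq 𝒳.p (𝒯.p.map (k a)) (u a))
        (fun a b ν => by
          haveI := (hw ν).1
          exact IsHomLift.fac' 𝒳.p (𝒯.p.map ν.hom) (w ν)) }
  have hc : ∀ (a : (AlgSt.fullSub 𝒯 (Loc D)).obj) (h : P a.obj), ∃ c : F.obj ⟨a.obj, h⟩ ⟶ y a,
      𝒳.p.IsHomLift (𝟙 (𝒯.p.obj a.obj)) c ∧ c ≫ u a = E.φ h (k a) := fun a h => by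
    obtain ⟨c, hc, -⟩ := IsoNat97.exists_fac hX (𝟙 (𝒯.p.obj a.obj)) (Category.id_comp _) (u a) (hu a)
      (E.φ h (k a)) (E.φ_lift h (k a))
    exact ⟨c, hc⟩
  choose c hcl hcu using hc
  refine ⟨G, c, hcl, fun {a b} ν ha hb => ?_⟩
  change _ = c a ha ≫ w ν
  let Fν := F.map (⟨ν.hom⟩ : (⟨a.obj, ha⟩ : (AlgSt.fullSub 𝒯 P).obj) ⟶ ⟨b.obj, hb⟩)
  have hl1 : 𝒳.p.IsHomLift (𝒯.p.map ν.hom) (Fν ≫ c b hb) := by
    haveI := isHomLift_map_sub F (⟨ν.hom⟩ : (⟨a.obj, ha⟩ : (AlgSt.fullSub 𝒯 P).obj) ⟶ ⟨b.obj, hb⟩)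
    haveI := hcl b hb
    exact IsHomLift.comp_lift_id_right 𝒳.p _ _ _
  haveI := hl1
  haveI : 𝒳.p.IsHomLift (𝒯.p.map ν.hom) (c a ha ≫ w ν) := by
    haveI := hcl a ha
    haveI := (hw ν).1
    exact IsHomLift.comp_lift_id_left 𝒳.p _ _ _
  haveI := hu b
  haveI := Fib44.isSC_of_fibGrpd 𝒳.p hX (𝒯.p.map (k b)) (u b)
  refine Functor.IsStronglyCartesian.ext 𝒳.p (𝒯.p.map (k b)) (u b) (𝒯.p.map ν.hom) ?_
  rw [Category.assoc, Category.assoc, hcu, E.φ_nat hb ha, (hw ν).2]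
  have h0 : 𝒳.p.IsHomLift (𝒯.p.map (k a)) (c a ha ≫ u a) := by
    rw [hcu]
    exact E.φ_lift _ _
  have h1 : 𝒳.p.IsHomLift (𝒯.p.map (𝟙 a.obj)) (c a ha) := by
    rw [𝒯.p.map_id]
    exact hcl a ha
  have h1' : 𝒳.p.IsHomLift (𝒯.p.map (𝟙 a.obj ≫ k a)) (c a ha ≫ u a) := by
    rw [Category.id_comp]
    exact h0
  rw [← L.natural (𝟙 a.obj) (k a) (ν.hom ≫ k b) (c a ha) h1 (u a) (hu a) h1']
  refine (L.agree ha (k a) (ν.hom ≫ k b) (E.φ_lift _ _)).symm.trans ?_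
  congr 1
  · exact (Category.id_comp _).symm
  · exact (Category.id_comp _).symm
  · exact (hcu a ha).symm

theorem exists_extension (hd : AffDiag 𝒳) (h𝒳 : Stk.IsStack (AlgSp.J S) 𝒳) (E : Ext D F) :
    ∃ Φ : 𝒯 ⥤ᵇ 𝒳, Nonempty (BasedFunctor.comp (AlgSt.subIncl 𝒯 P) Φ ≅ F) := by
  obtain ⟨L⟩ := exists_lin E h𝒳.1 hd
  obtain ⟨G, c, hcl, hcn⟩ := exists_loc_functor h𝒳.1 L
  obtain ⟨Φ, ⟨e⟩⟩ := Fib44.exists_extend (inc := AlgSt.subIncl 𝒯 (Loc D)) (F := G) h𝒳 D.fib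
    (fun {a V} g => Fib44.exists_lift' _ (AlgSt88.isFibGrpd_fullSub D.fib fun {_ _} m h => loc_down D m h) rfl g)
    (cover_loc D)
  let α : BasedFunctor.comp (AlgSt.subIncl _ (LocP D)) F ⟶
      BasedFunctor.comp (AlgSt.subIncl _ (LocP D)) (BasedFunctor.comp (AlgSt.subIncl 𝒯 P) Φ) :=
    ⟨{ app := fun a => c ⟨a.obj.obj, a.property⟩ a.obj.property ≫ e.inv.toNatTrans.app ⟨a.obj.obj, a.property⟩
       naturality := fun a b m => by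
        let m' : (⟨a.obj.obj, a.property⟩ : (AlgSt.fullSub 𝒯 (Loc D)).obj) ⟶ ⟨b.obj.obj, b.property⟩ := ⟨m.hom.hom⟩
        change F.map m.hom ≫ _ = _ ≫ Φ.map m.hom.hom
        rw [Category.assoc, ← Category.assoc]
        exact ((congrArg (· ≫ _) (hcn m' a.obj.property b.obj.property)).trans (Category.assoc _ _ _)).trans
          (congrArg (c _ _ ≫ ·) (e.inv.toNatTrans.naturality m')) }, fun a => by
      haveI := hcl ⟨a.obj.obj, a.property⟩ a.obj.property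
      haveI : 𝒳.p.IsHomLift (𝟙 (𝒯.p.obj a.obj.obj)) (e.inv.toNatTrans.app ⟨a.obj.obj, a.property⟩) :=
        e.inv.isHomLift' ⟨a.obj.obj, a.property⟩
      change 𝒳.p.IsHomLift (𝟙 (𝒯.p.obj a.obj.obj)) _
      exact IsHomLift.comp_lift_id_left 𝒳.p _ _ _⟩
  obtain ⟨β, -⟩ := exists_natTrans_of_restr (inc := AlgSt.subIncl (AlgSt.fullSub 𝒯 P) (LocP D)) h𝒳
    (AlgSt88.isFibGrpd_fullSub D.fib fun {_ _} m h => D.down m h)
    (fun {a V} g => Fib44.exists_lift' _ (AlgSt88.isFibGrpd_fullSub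
      (AlgSt88.isFibGrpd_fullSub D.fib fun {_ _} m h => D.down m h) fun {_ _} m h => locP_down D m h) rfl g)
    (cover_locP D) F (BasedFunctor.comp (AlgSt.subIncl 𝒯 P) Φ) α
  haveI := Fib44.isIso_basedNatTrans_of_fibGrpd h𝒳.1 β
  exact ⟨Φ, ⟨(asIso β).symm⟩⟩

omit F E in
theorem natTrans_ext (hd : AffDiag 𝒳) (h𝒳 : Stk.IsStack (AlgSp.J S) 𝒳) (D : Atlas 𝒯 P) {H H' : 𝒯 ⥤ᵇ 𝒳}
    (η η' : H ⟶ H') (h : ∀ A (_ : P A), η.toNatTrans.app A = η'.toNatTrans.app A) : η = η' := by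
  haveI := D.aff₀
  refine natTrans_ext_of_restr (inc := AlgSt.subIncl 𝒯 (Loc D)) h𝒳 D.fib (cover_loc D) η η' fun a => ?_
  obtain ⟨B, ⟨k⟩⟩ := a
  have h0 : η.toNatTrans.app D.A₀ = η'.toNatTrans.app D.A₀ := by
    haveI : 𝒳.p.IsHomLift (𝒯.p.map D.j₀) (H.map D.j₀) := Fib44.based_isHomLift_self H D.j₀
    haveI : IsAffine (𝒳.p.obj (H.obj D.A₀)).left := by
      rw [H.w_obj]
      exact D.aff₀
    haveI := η.isHomLift' D.A₀
    haveI := η'.isHomLift' D.A₀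
    refine hom_ext_of_injective h𝒳.1 hd (H.map D.j₀) (injective_of_lift (𝒯.p.map D.j₀) _ D.bij₀.1)
      (map_eq_of_lift (𝟙 (𝒯.p.obj D.A₀)) _ _) ?_
    exact (η.toNatTrans.naturality D.j₀).trans ((congrArg (· ≫ H'.map D.j₀) (h _ D.pV)).trans
      (η'.toNatTrans.naturality D.j₀).symm)
  haveI : 𝒳.p.IsHomLift (𝒯.p.map k) (H'.map k) := Fib44.based_isHomLift_self H' k
  haveI := Fib44.isSC_of_fibGrpd 𝒳.p h𝒳.1 (𝒯.p.map k) (H'.map k)
  haveI := η.isHomLift' B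
  haveI := η'.isHomLift' B
  change η.toNatTrans.app B = η'.toNatTrans.app B
  refine Functor.IsStronglyCartesian.ext 𝒳.p (𝒯.p.map k) (H'.map k) (𝟙 (𝒯.p.obj B)) ?_
  exact (η.toNatTrans.naturality k).symm.trans ((congrArg (H.map k ≫ ·) h0).trans (η'.toNatTrans.naturality k))

omit F E in
theorem exists_natTrans (hd : AffDiag 𝒳) (h𝒳 : Stk.IsStack (AlgSp.J S) 𝒳) (D : Atlas 𝒯 P) {H H' : 𝒯 ⥤ᵇ 𝒳}
    (η₀ : BasedFunctor.comp (AlgSt.subIncl 𝒯 P) H ⟶ BasedFunctor.comp (AlgSt.subIncl 𝒯 P) H') :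
    ∃ η : H ⟶ H', ∀ A (hA : P A), η.toNatTrans.app A = η₀.toNatTrans.app ⟨A, hA⟩ := by
  have hX := h𝒳.1
  haveI := D.aff₀
  haveI := D.aff₁
  have hl : ∀ (Ψ : 𝒯 ⥤ᵇ 𝒳) {b' b : 𝒯.obj} (n : b' ⟶ b), 𝒳.p.IsHomLift (𝒯.p.map n) (Ψ.map n) :=
    fun Ψ b' b n => Fib44.based_isHomLift_self Ψ n
  haveI : IsAffine (𝒳.p.obj (H.obj D.A₀)).left := by
    rw [H.w_obj]
    exact D.aff₀
  have hη : ∀ a, 𝒳.p.IsHomLift (𝟙 (𝒯.p.obj a.obj)) (η₀.toNatTrans.app a) := fun a => η₀.isHomLift' a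
  obtain ⟨v, hv, hv'⟩ : ∃ v : H.obj D.A₀ ⟶ H'.obj D.A₀, 𝒳.p.IsHomLift (𝟙 (𝒯.p.obj D.A₀)) v ∧
      H.map D.j₀ ≫ v = η₀.toNatTrans.app ⟨D.AV, D.pV⟩ ≫ H'.map D.j₀ := by
    haveI := hl H D.j₀
    haveI := hl H' D.j₀
    haveI := hη ⟨D.AV, D.pV⟩
    have h0 : 𝒳.p.IsHomLift (𝟙 (𝒯.p.obj D.AV) ≫ 𝒯.p.map D.j₀)
        (η₀.toNatTrans.app ⟨D.AV, D.pV⟩ ≫ H'.map D.j₀ : H.obj D.AV ⟶ H'.obj D.A₀) := inferInstance
    obtain ⟨v, h1, h2⟩ := exists_hom_extension hX hd (H.map D.j₀)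
      (bijective_of_lift (𝒯.p.map D.j₀) _ D.bij₀) (eqToHom ((H.w_obj D.A₀).trans (H'.w_obj D.A₀).symm))
      (η₀.toNatTrans.app ⟨D.AV, D.pV⟩ ≫ H'.map D.j₀ : H.obj D.AV ⟶ H'.obj D.A₀) (by
        haveI := h0
        refine (IsHomLift.fac' 𝒳.p (𝟙 (𝒯.p.obj D.AV) ≫ 𝒯.p.map D.j₀)
          (η₀.toNatTrans.app ⟨D.AV, D.pV⟩ ≫ H'.map D.j₀ : H.obj D.AV ⟶ H'.obj D.A₀)).trans ?_
        rw [IsHomLift.fac' 𝒳.p (𝒯.p.map D.j₀) (H.map D.j₀)]
        simp)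
    exact ⟨v, IsHomLift.of_fac' _ _ _ (H.w_obj _) (H'.w_obj _) (by simp [h1]), h2⟩
  have hkey : ∀ {B : 𝒯.obj} (q : B ⟶ D.AV) (hB : P B),
      η₀.toNatTrans.app ⟨B, hB⟩ ≫ H'.map (q ≫ D.j₀) = H.map (q ≫ D.j₀) ≫ v := by
    intro B q hB
    have e : H.map q ≫ η₀.toNatTrans.app ⟨D.AV, D.pV⟩ = η₀.toNatTrans.app ⟨B, hB⟩ ≫ H'.map q :=
      η₀.toNatTrans.naturality (⟨q⟩ : (⟨B, hB⟩ : (AlgSt.fullSub 𝒯 P).obj) ⟶ ⟨D.AV, D.pV⟩)
    rw [H.toFunctor.map_comp, H'.toFunctor.map_comp, Category.assoc, hv']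
    exact (Category.assoc _ _ _).symm.trans ((congrArg (· ≫ H'.map D.j₀) e.symm).trans (Category.assoc _ _ _))
  have ht : ∀ {B : 𝒯.obj} (k : B ⟶ D.A₀), ∃ t : H.obj B ⟶ H'.obj B,
      (𝒳.p.IsHomLift (𝟙 (𝒯.p.obj B)) t ∧ t ≫ H'.map k = H.map k ≫ v) ∧
      ∀ t', 𝒳.p.IsHomLift (𝟙 (𝒯.p.obj B)) t' → t' ≫ H'.map k = H.map k ≫ v → t' = t := by
    intro B k
    haveI := hl H k
    haveI := hv
    exact IsoNat97.exists_fac hX (𝟙 (𝒯.p.obj B)) (Category.id_comp _) (H'.map k) (hl H' k) (H.map k ≫ v)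
      (IsHomLift.comp_lift_id_right 𝒳.p _ _ _)
  choose t ht htu using @ht
  have htnat : ∀ {B B' : 𝒯.obj} (ν : B' ⟶ B) (k : B ⟶ D.A₀), H.map ν ≫ t k = t (ν ≫ k) ≫ H'.map ν := by
    intro B B' ν k
    haveI := hl H' k
    haveI := Fib44.isSC_of_fibGrpd 𝒳.p hX (𝒯.p.map k) (H'.map k)
    haveI := hl H ν
    haveI := hl H' ν
    haveI := (ht k).1
    haveI := (ht (ν ≫ k)).1
    haveI : 𝒳.p.IsHomLift (𝒯.p.map ν) (H.map ν ≫ t k) := IsHomLift.comp_lift_id_right 𝒳.p _ _ _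
    haveI : 𝒳.p.IsHomLift (𝒯.p.map ν) (t (ν ≫ k) ≫ H'.map ν) := IsHomLift.comp_lift_id_left 𝒳.p _ _ _
    refine Functor.IsStronglyCartesian.ext 𝒳.p (𝒯.p.map k) (H'.map k) (𝒯.p.map ν) ?_
    rw [Category.assoc, Category.assoc, (ht k).2, ← H'.toFunctor.map_comp, (ht (ν ≫ k)).2,
      H.toFunctor.map_comp, Category.assoc]
  have hP : ∀ {B : 𝒯.obj} (hB : P B) (k : B ⟶ D.A₀), η₀.toNatTrans.app ⟨B, hB⟩ = t k := fun {B} hB k => by
    obtain ⟨q, rfl, -⟩ := D.fac₀ k hB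
    exact htu (q ≫ D.j₀) _ (hη ⟨B, hB⟩) (hkey q hB)
  have hind : ∀ {B : 𝒯.obj} (k k' : B ⟶ D.A₀), t k = t k' := by
    have h1 : t D.n₁ = t D.n₂ := by
      haveI := hl H D.j₁
      haveI := (ht D.n₁).1
      haveI := (ht D.n₂).1
      haveI : IsAffine (𝒳.p.obj (H.obj D.A₁)).left := by
        rw [H.w_obj]
        exact D.aff₁
      refine hom_ext_of_injective hX hd (H.map D.j₁) (injective_of_lift (𝒯.p.map D.j₁) _ D.bij₁.1)
        (map_eq_of_lift (𝟙 (𝒯.p.obj D.A₁)) _ _) ?_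
      rw [htnat, htnat, ← hP D.pW, ← hP D.pW]
    intro B k k'
    obtain ⟨q, ⟨rfl, rfl⟩, -⟩ := D.pair k k'
    haveI := hl H' q
    haveI := Fib44.isSC_of_fibGrpd 𝒳.p hX (𝒯.p.map q) (H'.map q)
    haveI := (ht (q ≫ D.n₁)).1
    haveI := (ht (q ≫ D.n₂)).1
    refine Functor.IsStronglyCartesian.ext 𝒳.p (𝒯.p.map q) (H'.map q) (𝟙 (𝒯.p.obj B)) ?_
    rw [← htnat, ← htnat, h1]
  let α : BasedFunctor.comp (AlgSt.subIncl 𝒯 (Loc D)) H ⟶ BasedFunctor.comp (AlgSt.subIncl 𝒯 (Loc D)) H' :=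
    ⟨{ app := fun a => t a.property.some
       naturality := fun a b m => by
        change H.map m.hom ≫ t b.property.some = t a.property.some ≫ H'.map m.hom
        rw [htnat, hind] }, fun a => (ht a.property.some).1⟩
  obtain ⟨η, hηe⟩ := exists_natTrans_of_restr (inc := AlgSt.subIncl 𝒯 (Loc D)) h𝒳 D.fib
    (fun {a V} g => Fib44.exists_lift' _ (AlgSt88.isFibGrpd_fullSub D.fib fun {_ _} m h => loc_down D m h) rfl g)
    (cover_loc D) H H' α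
  refine ⟨η, fun A hA => ?_⟩
  let ηP : BasedFunctor.comp (AlgSt.subIncl 𝒯 P) H ⟶ BasedFunctor.comp (AlgSt.subIncl 𝒯 P) H' :=
    BasedCategory.whiskerLeft (AlgSt.subIncl 𝒯 P) η
  have e : ηP = η₀ := natTrans_ext_of_restr (inc := AlgSt.subIncl (AlgSt.fullSub 𝒯 P) (LocP D)) h𝒳
    (AlgSt88.isFibGrpd_fullSub D.fib fun {_ _} m h => D.down m h) (cover_locP D) ηP η₀ fun a =>
      (hηe ⟨a.obj.obj, a.property⟩).trans (hP a.obj.property a.property.some).symm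
  exact congrArg (fun s => s.toNatTrans.app (⟨A, hA⟩ : (AlgSt.fullSub 𝒯 P).obj)) e

omit F E in
/-- The criterion: squares fill uniquely as soon as extensions exist on the atlas. -/
theorem liftsUniquely (hd : AffDiag 𝒳) (h𝒳 : Stk.IsStack (AlgSp.J S) 𝒳) (D : Atlas 𝒯 P)
    (hE : ∀ F : AlgSt.fullSub 𝒯 P ⥤ᵇ 𝒳, Nonempty (Ext D F)) :
    LiftSq.LiftsUniquely (AlgSt.subIncl 𝒯 P) (toSelf 𝒳) := by
  intro sq
  refine ⟨?_, fun d d' => ?_⟩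
  · obtain ⟨Φ, ⟨e⟩⟩ := exists_extension hd h𝒳 (hE sq.top).some
    obtain ⟨i⟩ := exists_self_natIso sq.bot (BasedFunctor.comp Φ (toSelf 𝒳))
    exact ⟨⟨Φ, e, i, self_natTrans_ext _ _⟩⟩
  · obtain ⟨η, hη⟩ := exists_natTrans hd h𝒳 D (d.isoTop.hom ≫ d'.isoTop.inv)
    have htop : BasedCategory.whiskerLeft (AlgSt.subIncl 𝒯 P) η = d.isoTop.hom ≫ d'.isoTop.inv :=
      Fib44.basedNatTrans_ext fun a => hη a.obj a.property
    refine ⟨⟨⟨⟨η, by rw [htop, Category.assoc, Iso.inv_hom_id, Category.comp_id], self_natTrans_ext _ _⟩⟩,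
      fun φ => ?_⟩⟩
    refine LiftSq.Sq.Lift.hom_ext (natTrans_ext hd h𝒳 D _ _ fun A hA => ?_)
    have h2 : BasedCategory.whiskerLeft (AlgSt.subIncl 𝒯 P) φ.hom = d.isoTop.hom ≫ d'.isoTop.inv := by
      rw [← φ.w_top, Category.assoc, Iso.hom_inv_id, Category.comp_id]
    exact congrArg (fun s => s.toNatTrans.app (⟨A, hA⟩ : (AlgSt.fullSub 𝒯 P).obj)) (h2.trans htop.symm)

end Groth.Agent.Stack44Ext
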