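import Groth.Agent.Theta44.Extend
import Groth.Agent.AlgSt88.SepRep

/-!
Morphisms in a category with affine diagonal extend, and agree, along morphisms of affine schemes with bijective,
respectively injective, restriction of functions.
-/

set_option autoImplicit false
set_option maxHeartbeats 1000000
set_option linter.style.haveILetI false
set_option linter.unusedSectionVars false
set_option backward.isDefEq.respectTransparency false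
set_option backward.isDefEq.respectTransparency.types false
universe u

open CategoryTheory CategoryTheory.Limits AlgebraicGeometry AlgSt FibCat
open Groth.Agent.AlgSt88 Groth.Agent.Theta44

namespace Groth.Agent.Stack44Ext

variable {S : Scheme.{u}}

/-- The diagonal is representable by affine morphisms. -/
abbrev AffDiag (𝒳 : AlgSt.Cat S) : Prop :=
  RepByAlgSpWith (AlgSp.RepWith @IsAffineHom) (diag (toSelf 𝒳))

variable {𝒳 : AlgSt.Cat S}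

/-- Pairs of objects over a common base. -/
abbrev Sq2 (𝒳 : AlgSt.Cat S) : AlgSt.Cat S := fp (toSelf 𝒳) (toSelf 𝒳)

/-- The pair of two objects over the same scheme. -/
abbrev sq2 (y z : 𝒳.obj) (h : 𝒳.p.obj y = 𝒳.p.obj z) : (Sq2 𝒳).obj :=
  Fib44.fpMk y z (eqToIso h) (IsHomLift.of_fac' _ _ _ rfl h.symm (by
    change eqToHom h = _
    simp))

/-- The morphism of pairs given by two morphisms. -/
abbrev sq2Hom {y z y' z' : 𝒳.obj} {h : 𝒳.p.obj y = 𝒳.p.obj z} {h' : 𝒳.p.obj y' = 𝒳.p.obj z'}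
    (a : y' ⟶ y) (b : z' ⟶ z) (w : 𝒳.p.map a ≫ eqToHom h = eqToHom h' ≫ 𝒳.p.map b) :
    sq2 y' z' h' ⟶ sq2 y z h :=
  Fib44.fpHom a b w

variable (hX : IsFibGrpd 𝒳.p)
include hX

theorem faithful_diag : (diag (toSelf 𝒳)).toFunctor.Faithful :=
  ⟨fun {x y} {m m'} e => congrArg (fun t => t.hom.fst) e⟩

omit hX in
/-- The pair given by a vertical morphism. -/
def homPair {y z : 𝒳.obj} {h : 𝒳.p.obj y = 𝒳.p.obj z} (χ : y ⟶ z) (hχ : 𝒳.p.map χ = eqToHom h) :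
    Pair (diag (toSelf 𝒳)) (BasedFunctor.id (Sq2 𝒳)) (sq2 y z h) :=
  ⟨y, rfl, Fib44.fpHom (𝟙 y) χ (by
    change 𝒳.p.map (𝟙 y) ≫ eqToHom h = 𝟙 _ ≫ 𝒳.p.map χ
    rw [hχ]
    simp), (Fib44.fp_isHomLift_iff _ _).2 (IsHomLift.id rfl)⟩

theorem exists_homPair {y z : 𝒳.obj} {h : 𝒳.p.obj y = 𝒳.p.obj z}
    (ε : Cls (diag (toSelf 𝒳)) (BasedFunctor.id (Sq2 𝒳)) (sq2 y z h)) :
    ∃ (χ : y ⟶ z) (hχ : 𝒳.p.map χ = eqToHom h), cls (homPair χ hχ) = ε := by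
  obtain ⟨π, rfl⟩ := cls_surjective ε
  have hl := π.lift
  haveI h1 : 𝒳.p.IsHomLift (𝟙 (𝒳.p.obj y)) π.ι.hom.fst := (Fib44.fp_isHomLift_iff _ _).1 hl
  haveI := Fib44.isIso_of_fibGrpd 𝒳.p hX (𝟙 (𝒳.p.obj y)) π.ι.hom.fst
  have e : 𝒳.p.map π.ι.hom.fst ≫ eqToHom h = 𝟙 _ ≫ 𝒳.p.map π.ι.hom.snd := Fib44.fp_w π.ι
  rw [Category.id_comp] at e
  let χ : y ⟶ z := inv π.ι.hom.fst ≫ π.ι.hom.snd
  have hχ : 𝒳.p.map χ = eqToHom h := by
    rw [Functor.map_comp, Functor.map_inv, IsIso.inv_comp_eq, e]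
  refine ⟨χ, hχ, ((cls_eq_iff hX _ _).2 ⟨π.ι.hom.fst, ?_, ?_⟩).symm⟩
  · exact Eq.subst (motive := fun g => 𝒳.p.IsHomLift g π.ι.hom.fst)
      ((Sq2 𝒳).p.map_id (sq2 y z h)).symm h1
  · refine Fib44.fp_hom_ext ?_ ?_
    · change π.ι.hom.fst ≫ 𝟙 y = π.ι.hom.fst ≫ 𝟙 y
      rfl
    · change π.ι.hom.fst ≫ χ = π.ι.hom.snd ≫ 𝟙 z
      simp only [χ, IsIso.hom_inv_id_assoc]
      exact (Category.comp_id _).symm

theorem res_homPair_iff {y z y' z' : 𝒳.obj} {h : 𝒳.p.obj y = 𝒳.p.obj z} {h' : 𝒳.p.obj y' = 𝒳.p.obj z'}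
    (a : y' ⟶ y) (b : z' ⟶ z) (w : 𝒳.p.map a ≫ eqToHom h = eqToHom h' ≫ 𝒳.p.map b)
    (χ : y ⟶ z) (hχ : 𝒳.p.map χ = eqToHom h) (χ' : y' ⟶ z') (hχ' : 𝒳.p.map χ' = eqToHom h') :
    haveI := faithful_diag hX
    res hX (Fib44.isFibGrpd_fp hX hX isFibGrpd_selfOver) (sq2Hom a b w) (cls (homPair χ hχ)) = cls (homPair χ' hχ') ↔
      a ≫ χ = χ' ≫ b := by
  haveI := faithful_diag hX
  rw [res_cls_iff]
  constructor
  · rintro ⟨θ, -, e⟩
    have e1 : θ ≫ 𝟙 y = 𝟙 y' ≫ a := congrArg (fun t => t.hom.fst) e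
    have e2 : θ ≫ χ = χ' ≫ b := congrArg (fun t => t.hom.snd) e
    have e1' : θ = a := (Category.comp_id θ).symm.trans (e1.trans (Category.id_comp a))
    exact (congrArg (· ≫ χ) e1'.symm).trans e2
  · intro e
    refine ⟨a, IsHomLift.map 𝒳.p a, Fib44.fp_hom_ext ?_ e⟩
    change a ≫ 𝟙 y = 𝟙 y' ≫ a
    simp

variable (hd : AffDiag 𝒳)
include hd

/-- Morphisms agreeing after a morphism with injective restriction of functions agree. -/
theorem hom_ext_of_injective {y' y z : 𝒳.obj} [IsAffine (𝒳.p.obj y).left] (m : y' ⟶ y)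
    (hm : Function.Injective (𝒳.p.map m).left.appTop) {w₁ w₂ : y ⟶ z} (hw : 𝒳.p.map w₁ = 𝒳.p.map w₂)
    (e : m ≫ w₁ = m ≫ w₂) : w₁ = w₂ := by
  haveI := faithful_diag hX
  have hXX := Fib44.isFibGrpd_fp (F := toSelf 𝒳) (G := toSelf 𝒳) hX hX isFibGrpd_selfOver
  obtain ⟨χ, hχ, hχ'⟩ := fg_exists_fac hX w₂ w₁ (𝟙 _) (by rw [Category.id_comp, hw])
  have h1 : m ≫ χ = m := fg_hom_ext hX w₂ (by rw [Functor.map_comp, hχ, Category.comp_id])
    (by rw [Category.assoc, hχ', e])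
  let a := sq2Hom (h := rfl) (h' := rfl) m m (by simp)
  haveI : IsAffine ((Sq2 𝒳).p.obj (sq2 y y rfl)).left := ‹IsAffine (𝒳.p.obj y).left›
  have h2 := res_injective_of_open (f := diag (toSelf 𝒳)) (b := BasedFunctor.id (Sq2 𝒳)) hXX hX hXX hd a hm
    (a₁ := cls (homPair χ (h := rfl) (by rw [hχ]; rfl))) (a₂ := cls (homPair (𝟙 y) (h := rfl) (by simp))) (by
      rw [(res_homPair_iff hX m m (by simp) χ _ (𝟙 y') (by simp)).2 (by rw [h1]; simp),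
        (res_homPair_iff hX m m (by simp) (𝟙 y) _ (𝟙 y') (by simp)).2 (by simp)])
  obtain ⟨θ, -, hθ⟩ := (cls_eq_iff hX _ _).1 h2
  have e1 : θ ≫ 𝟙 y = 𝟙 y ≫ 𝟙 y := congrArg (fun t => t.hom.fst) hθ
  have e2 : θ ≫ 𝟙 y = χ ≫ 𝟙 y := congrArg (fun t => t.hom.snd) hθ
  have e3 : 𝟙 y = χ := ((Category.comp_id (𝟙 y)).symm.trans (e1.symm.trans e2)).trans (Category.comp_id χ)
  rw [← hχ', ← e3]
  exact Category.id_comp _

/-- Morphisms extend along a morphism with bijective restriction of functions. -/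
theorem exists_hom_extension {y' y z : 𝒳.obj} [IsAffine (𝒳.p.obj y).left] (m : y' ⟶ y)
    (hm : Function.Bijective (𝒳.p.map m).left.appTop) (g : 𝒳.p.obj y ⟶ 𝒳.p.obj z) (u : y' ⟶ z)
    (hu : 𝒳.p.map u = 𝒳.p.map m ≫ g) : ∃ w : y ⟶ z, 𝒳.p.map w = g ∧ m ≫ w = u := by
  haveI := faithful_diag hX
  have hXX := Fib44.isFibGrpd_fp (F := toSelf 𝒳) (G := toSelf 𝒳) hX hX isFibGrpd_selfOver
  obtain ⟨z₀, hz₀, φ, hφ⟩ := fg_exists_lift hX g
  obtain ⟨u₀, hu₀, hu₀'⟩ := fg_exists_fac hX φ u (𝒳.p.map m ≫ eqToHom hz₀.symm) (by rw [hφ, hu]; simp)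
  haveI : IsAffine ((Sq2 𝒳).p.obj (sq2 y z₀ hz₀.symm)).left := ‹IsAffine (𝒳.p.obj y).left›
  let a := sq2Hom (h := hz₀.symm) (h' := rfl) m u₀ (by rw [hu₀]; simp)
  obtain ⟨ε, hε⟩ := res_surjective_of_open (f := diag (toSelf 𝒳)) (b := BasedFunctor.id (Sq2 𝒳)) hXX hX hXX hd a hm
    (cls (homPair (𝟙 y') (h := rfl) (by simp)))
  obtain ⟨χ, hχ, rfl⟩ := exists_homPair hX ε
  have h1 := (res_homPair_iff hX m u₀ (by rw [hu₀]; simp) χ hχ (𝟙 y') (by simp)).1 hε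
  rw [Category.id_comp] at h1
  refine ⟨χ ≫ φ, ?_, by rw [reassoc_of% h1, hu₀']⟩
  rw [Functor.map_comp, hχ, hφ]
  simp

end Groth.Agent.Stack44Ext
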