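import Groth.Agent.Stack44Ext.HomExt
import Groth.Agent.IsoNat97.Lift

/-!
The linearisation on an object extending the atlas value of a functor on an open substack.
-/

set_option autoImplicit false
set_option maxHeartbeats 1000000
set_option linter.style.haveILetI false
set_option linter.unusedSectionVars false
set_option backward.isDefEq.respectTransparency false
set_option backward.isDefEq.respectTransparency.types false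
universe u

open CategoryTheory CategoryTheory.Limits AlgebraicGeometry AlgSt FibCat
open Groth.Agent.AlgSt88 Groth.Agent.Theta44

namespace Groth.Agent.Stack44Ext

variable {S : Scheme.{u}}

section Lifts

variable {𝒳 : AlgSt.Cat S} {R R' : Over S} {a b : 𝒳.obj}

theorem map_eq_of_lift (f : R ⟶ R') (φ ψ : a ⟶ b) [𝒳.p.IsHomLift f φ] [𝒳.p.IsHomLift f ψ] :
    𝒳.p.map φ = 𝒳.p.map ψ := by
  rw [IsHomLift.fac' 𝒳.p f φ, IsHomLift.fac' 𝒳.p f ψ]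

theorem bijective_of_lift (f : R ⟶ R') (φ : a ⟶ b) [𝒳.p.IsHomLift f φ] (h : Function.Bijective f.left.appTop) :
    Function.Bijective (𝒳.p.map φ).left.appTop := by
  subst_hom_lift 𝒳.p f φ
  exact h

theorem injective_of_lift (f : R ⟶ R') (φ : a ⟶ b) [𝒳.p.IsHomLift f φ] (h : Function.Injective f.left.appTop) :
    Function.Injective (𝒳.p.map φ).left.appTop := by
  subst_hom_lift 𝒳.p f φ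
  exact h

theorem isAffine_of_lift (f : R ⟶ R') (φ : a ⟶ b) [𝒳.p.IsHomLift f φ] (h : IsAffine R.left) :
    IsAffine (𝒳.p.obj a).left := by
  subst_hom_lift 𝒳.p f φ
  exact h

end Lifts

/-- An affine atlas of a category with an open part, with its affine double and triple overlaps. -/
structure Atlas (𝒯 : AlgSt.Cat S) (P : 𝒯.obj → Prop) where
  fib : IsFibGrpd 𝒯.p
  down : ∀ {A A' : 𝒯.obj} (_ : A' ⟶ A), P A → P A'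
  A₀ : 𝒯.obj
  aff₀ : IsAffine (𝒯.p.obj A₀).left
  AV : 𝒯.obj
  j₀ : AV ⟶ A₀
  pV : P AV
  bij₀ : Function.Bijective (𝒯.p.map j₀).left.appTop
  fac₀ : ∀ {A : 𝒯.obj} (k : A ⟶ A₀), P A → ∃! q : A ⟶ AV, q ≫ j₀ = k
  loc : ∀ A : 𝒯.obj, ∃ (A' : 𝒯.obj) (m : A' ⟶ A) (_ : A' ⟶ A₀), FppfHom (𝒯.p.map m)
  A₁ : 𝒯.obj
  n₁ : A₁ ⟶ A₀
  n₂ : A₁ ⟶ A₀
  aff₁ : IsAffine (𝒯.p.obj A₁).left
  pair : ∀ {A : 𝒯.obj} (k k' : A ⟶ A₀), ∃! q : A ⟶ A₁, q ≫ n₁ = k ∧ q ≫ n₂ = k'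
  AW : 𝒯.obj
  j₁ : AW ⟶ A₁
  pW : P AW
  bij₁ : Function.Bijective (𝒯.p.map j₁).left.appTop
  fac₁ : ∀ {A : 𝒯.obj} (q : A ⟶ A₁), P A → ∃ q' : A ⟶ AW, q' ≫ j₁ = q
  A₂ : 𝒯.obj
  l : Fin 3 → (A₂ ⟶ A₀)
  aff₂ : IsAffine (𝒯.p.obj A₂).left
  triple : ∀ {A : 𝒯.obj} (k : Fin 3 → (A ⟶ A₀)), ∃ r : A ⟶ A₂, ∀ i, r ≫ l i = k i
  AW₂ : 𝒯.obj
  j₂ : AW₂ ⟶ A₂
  pW₂ : P AW₂
  inj₂ : Function.Injective (𝒯.p.map j₂).left.appTop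

variable {𝒯 𝒳 : AlgSt.Cat S} {P : 𝒯.obj → Prop} (D : Atlas 𝒯 P)

/-- An object on the atlas extending the value of a functor on the open part. -/
structure Ext (F : AlgSt.fullSub 𝒯 P ⥤ᵇ 𝒳) where
  ξ : 𝒳.obj
  μ : F.obj ⟨D.AV, D.pV⟩ ⟶ ξ
  lift : 𝒳.p.IsHomLift (𝒯.p.map D.j₀) μ

variable {D} {F : AlgSt.fullSub 𝒯 P ⥤ᵇ 𝒳} (E : Ext D F)

/-- The value of the functor, mapped to the extension. -/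
noncomputable def Ext.φ {B : 𝒯.obj} (hB : P B) (k : B ⟶ D.A₀) : F.obj ⟨B, hB⟩ ⟶ E.ξ :=
  F.map (⟨(D.fac₀ k hB).exists.choose⟩ : (⟨B, hB⟩ : (AlgSt.fullSub 𝒯 P).obj) ⟶ ⟨D.AV, D.pV⟩) ≫ E.μ

theorem Ext.φ_eq {B : 𝒯.obj} (hB : P B) (k : B ⟶ D.A₀) (q : B ⟶ D.AV) (hq : q ≫ D.j₀ = k) :
    E.φ hB k = F.map (⟨q⟩ : (⟨B, hB⟩ : (AlgSt.fullSub 𝒯 P).obj) ⟶ ⟨D.AV, D.pV⟩) ≫ E.μ := by
  obtain rfl := (D.fac₀ k hB).unique hq (D.fac₀ k hB).exists.choose_spec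
  rfl

theorem isHomLift_map_sub (F : AlgSt.fullSub 𝒯 P ⥤ᵇ 𝒳) {a b : (AlgSt.fullSub 𝒯 P).obj} (m : a ⟶ b) :
    𝒳.p.IsHomLift (𝒯.p.map m.hom) (F.map m) := by
  have : (AlgSt.fullSub 𝒯 P).p.IsHomLift (𝒯.p.map m.hom) m := IsHomLift.map (AlgSt.fullSub 𝒯 P).p m
  exact BasedFunctor.preserves_isHomLift F (𝒯.p.map m.hom) m

theorem Ext.φ_lift {B : 𝒯.obj} (hB : P B) (k : B ⟶ D.A₀) : 𝒳.p.IsHomLift (𝒯.p.map k) (E.φ hB k) := by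
  obtain ⟨q, rfl, -⟩ := D.fac₀ k hB
  rw [E.φ_eq hB _ q rfl, Functor.map_comp]
  have := E.lift
  have := isHomLift_map_sub F (⟨q⟩ : (⟨B, hB⟩ : (AlgSt.fullSub 𝒯 P).obj) ⟶ ⟨D.AV, D.pV⟩)
  infer_instance

theorem Ext.φ_nat {B B' : 𝒯.obj} (hB : P B) (hB' : P B') (ν : B' ⟶ B) (k : B ⟶ D.A₀) :
    F.map (⟨ν⟩ : (⟨B', hB'⟩ : (AlgSt.fullSub 𝒯 P).obj) ⟶ ⟨B, hB⟩) ≫ E.φ hB k = E.φ hB' (ν ≫ k) := by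
  obtain ⟨q, rfl, -⟩ := D.fac₀ k hB
  rw [E.φ_eq hB _ q rfl, E.φ_eq hB' _ (ν ≫ q) (Category.assoc _ _ _), ← Category.assoc, ← F.map_comp]
  rfl

theorem Ext.φ_j₀ : E.φ D.pV D.j₀ = E.μ := by
  rw [E.φ_eq D.pV _ (𝟙 _) (Category.id_comp _)]
  exact (congrArg (· ≫ E.μ) (F.map_id _)).trans (Category.id_comp _)

variable (hX : IsFibGrpd 𝒳.p) (hd : AffDiag 𝒳)

/-- A linearisation of the extension. -/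
structure Lin where
  ρ : ∀ {B : 𝒯.obj} (k k' : B ⟶ D.A₀) {y : 𝒳.obj} (u : y ⟶ E.ξ), 𝒳.p.IsHomLift (𝒯.p.map k) u → (y ⟶ E.ξ)
  lift : ∀ {B : 𝒯.obj} (k k' : B ⟶ D.A₀) {y : 𝒳.obj} (u : y ⟶ E.ξ) (hu : 𝒳.p.IsHomLift (𝒯.p.map k) u),
    𝒳.p.IsHomLift (𝒯.p.map k') (ρ k k' u hu)
  natural : ∀ {B B' : 𝒯.obj} (ν : B' ⟶ B) (k k' : B ⟶ D.A₀) {y y' : 𝒳.obj} (w : y' ⟶ y)
    (_ : 𝒳.p.IsHomLift (𝒯.p.map ν) w) (u : y ⟶ E.ξ) (hu : 𝒳.p.IsHomLift (𝒯.p.map k) u)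
    (hu' : 𝒳.p.IsHomLift (𝒯.p.map (ν ≫ k)) (w ≫ u)), ρ (ν ≫ k) (ν ≫ k') (w ≫ u) hu' = w ≫ ρ k k' u hu
  agree : ∀ {B : 𝒯.obj} (hB : P B) (k k' : B ⟶ D.A₀) (hu : 𝒳.p.IsHomLift (𝒯.p.map k) (E.φ hB k)),
    ρ k k' (E.φ hB k) hu = E.φ hB k'
  refl : ∀ {B : 𝒯.obj} (k : B ⟶ D.A₀) {y : 𝒳.obj} (u : y ⟶ E.ξ) (hu : 𝒳.p.IsHomLift (𝒯.p.map k) u),
    ρ k k u hu = u
  trans : ∀ {B : 𝒯.obj} (k k' k'' : B ⟶ D.A₀) {y : 𝒳.obj} (u : y ⟶ E.ξ) (hu : 𝒳.p.IsHomLift (𝒯.p.map k) u)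
    (hu' : 𝒳.p.IsHomLift (𝒯.p.map k') (ρ k k' u hu)), ρ k' k'' (ρ k k' u hu) hu' = ρ k k'' u hu

include hX in
theorem lift_comp {B B' : 𝒯.obj} (ν : B' ⟶ B) (k : B ⟶ D.A₀) {y y' : 𝒳.obj} (w : y' ⟶ y)
    (hw : 𝒳.p.IsHomLift (𝒯.p.map ν) w) (u : y ⟶ E.ξ) (hu : 𝒳.p.IsHomLift (𝒯.p.map k) u) :
    𝒳.p.IsHomLift (𝒯.p.map (ν ≫ k)) (w ≫ u) := by
  haveI := hw
  haveI := hu
  rw [Functor.map_comp]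
  infer_instance

include hX hd in
theorem exists_lin : Nonempty (Lin E) := by
  haveI := D.aff₀
  haveI := D.aff₁
  haveI := D.aff₂
  have hover : 𝒳.p.obj E.ξ = 𝒯.p.obj D.A₀ := by
    have := E.lift
    exact IsHomLift.codomain_eq 𝒳.p (𝒯.p.map D.j₀) E.μ
  obtain ⟨ξ₁, u₁, hu₁⟩ := Fib44.exists_lift' 𝒳.p hX hover (𝒯.p.map D.n₁)
  have hW1 := E.φ_lift D.pW (D.j₁ ≫ D.n₁)
  obtain ⟨e, ⟨he, he'⟩, -⟩ := IsoNat97.exists_fac hX (𝒯.p.map D.j₁) (k := 𝒯.p.map (D.j₁ ≫ D.n₁))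
    (g := 𝒯.p.map D.n₁) (Functor.map_comp _ _ _).symm u₁ hu₁ (E.φ D.pW (D.j₁ ≫ D.n₁)) hW1
  have hξ₁ : 𝒳.p.obj ξ₁ = 𝒯.p.obj D.A₁ := IsHomLift.domain_eq 𝒳.p (𝒯.p.map D.n₁) u₁
  haveI : IsAffine (𝒳.p.obj ξ₁).left := isAffine_of_lift (𝒯.p.map D.n₁) u₁ D.aff₁
  obtain ⟨u₂, hu₂, hu₂'⟩ : ∃ u₂ : ξ₁ ⟶ E.ξ, 𝒳.p.IsHomLift (𝒯.p.map D.n₂) u₂ ∧ e ≫ u₂ = E.φ D.pW (D.j₁ ≫ D.n₂) := by
    haveI := he
    obtain ⟨w, hw, hw'⟩ := exists_hom_extension hX hd e (bijective_of_lift (𝒯.p.map D.j₁) e D.bij₁)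
      (eqToHom hξ₁ ≫ 𝒯.p.map D.n₂ ≫ eqToHom hover.symm) (E.φ D.pW (D.j₁ ≫ D.n₂)) (by
        haveI := E.φ_lift D.pW (D.j₁ ≫ D.n₂)
        rw [IsHomLift.fac' 𝒳.p (𝒯.p.map (D.j₁ ≫ D.n₂)) (E.φ D.pW (D.j₁ ≫ D.n₂)),
          IsHomLift.fac' 𝒳.p (𝒯.p.map D.j₁) e]
        simp)
    exact ⟨w, IsHomLift.of_fac' _ _ _ hξ₁ hover hw, hw'⟩
  have hv : ∀ (B : 𝒯.obj) (k k' : B ⟶ D.A₀) (y : 𝒳.obj) (u : y ⟶ E.ξ),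
      𝒳.p.IsHomLift (𝒯.p.map k) u → ∃ v : y ⟶ ξ₁,
        (𝒳.p.IsHomLift (𝒯.p.map (D.pair k k').exists.choose) v ∧ v ≫ u₁ = u) ∧
        ∀ v', 𝒳.p.IsHomLift (𝒯.p.map (D.pair k k').exists.choose) v' → v' ≫ u₁ = u → v' = v := by
    intro B k k' y u hu
    exact IsoNat97.exists_fac hX (𝒯.p.map (D.pair k k').exists.choose) (k := 𝒯.p.map k)
      (g := 𝒯.p.map D.n₁) (by rw [← Functor.map_comp, (D.pair k k').exists.choose_spec.1]) u₁ hu₁ u hu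
  choose v hv1 hv2 using hv
  let ρ : ∀ {B : 𝒯.obj} (k k' : B ⟶ D.A₀) {y : 𝒳.obj} (u : y ⟶ E.ξ), 𝒳.p.IsHomLift (𝒯.p.map k) u → (y ⟶ E.ξ) :=
    fun {B} k k' {y} u hu => v B k k' y u hu ≫ u₂
  have hρ : ∀ {B : 𝒯.obj} (k k' : B ⟶ D.A₀) {y : 𝒳.obj} (u : y ⟶ E.ξ) (hu : 𝒳.p.IsHomLift (𝒯.p.map k) u)
      (q : B ⟶ D.A₁) (_ : q ≫ D.n₁ = k) (_ : q ≫ D.n₂ = k') (w : y ⟶ ξ₁)
      (_ : 𝒳.p.IsHomLift (𝒯.p.map q) w) (_ : w ≫ u₁ = u), ρ k k' u hu = w ≫ u₂ := by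
    intro B k k' y u hu q h1 h2 w hw e'
    obtain rfl := (D.pair k k').unique ⟨h1, h2⟩ (D.pair k k').exists.choose_spec
    exact congrArg (· ≫ u₂) (hv2 _ k k' _ u hu w hw e').symm
  have hlift : ∀ {B : 𝒯.obj} (k k' : B ⟶ D.A₀) {y : 𝒳.obj} (u : y ⟶ E.ξ)
      (hu : 𝒳.p.IsHomLift (𝒯.p.map k) u), 𝒳.p.IsHomLift (𝒯.p.map k') (ρ k k' u hu) := by
    intro B k k' y u hu
    have h1 := lift_comp (E := E) hX (D.pair k k').exists.choose D.n₂ (v _ k k' _ u hu) (hv1 _ k k' _ u hu).1 u₂ hu₂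
    rwa [(D.pair k k').exists.choose_spec.2] at h1
  have hnat : ∀ {B B' : 𝒯.obj} (ν : B' ⟶ B) (k k' : B ⟶ D.A₀) {y y' : 𝒳.obj} (w : y' ⟶ y)
      (_ : 𝒳.p.IsHomLift (𝒯.p.map ν) w) (u : y ⟶ E.ξ) (hu : 𝒳.p.IsHomLift (𝒯.p.map k) u)
      (hu' : 𝒳.p.IsHomLift (𝒯.p.map (ν ≫ k)) (w ≫ u)),
      ρ (ν ≫ k) (ν ≫ k') (w ≫ u) hu' = w ≫ ρ k k' u hu := by
    intro B B' ν k k' y y' w hw u hu hu'
    rw [hρ (ν ≫ k) (ν ≫ k') (w ≫ u) hu' (ν ≫ (D.pair k k').exists.choose)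
      (by rw [Category.assoc, (D.pair k k').exists.choose_spec.1])
      (by rw [Category.assoc, (D.pair k k').exists.choose_spec.2]) (w ≫ v _ k k' _ u hu)
      (by haveI := hw; haveI := (hv1 _ k k' _ u hu).1; rw [Functor.map_comp]; infer_instance)
      (by rw [Category.assoc, (hv1 _ k k' _ u hu).2])]
    exact Category.assoc _ _ _
  have hagree : ∀ {B : 𝒯.obj} (hB : P B) (k k' : B ⟶ D.A₀) (hu : 𝒳.p.IsHomLift (𝒯.p.map k) (E.φ hB k)),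
      ρ k k' (E.φ hB k) hu = E.φ hB k' := by
    intro B hB k k' hu
    obtain ⟨q, ⟨rfl, rfl⟩, -⟩ := D.pair k k'
    obtain ⟨q', rfl⟩ := D.fac₁ q hB
    let Fq := F.map (⟨q'⟩ : (⟨B, hB⟩ : (AlgSt.fullSub 𝒯 P).obj) ⟶ ⟨D.AW, D.pW⟩)
    have hFq : 𝒳.p.IsHomLift (𝒯.p.map q') Fq :=
      isHomLift_map_sub F (⟨q'⟩ : (⟨B, hB⟩ : (AlgSt.fullSub 𝒯 P).obj) ⟶ ⟨D.AW, D.pW⟩)
    rw [hρ _ _ _ hu (q' ≫ D.j₁) rfl rfl (Fq ≫ e)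
      (by haveI := hFq; haveI := he; rw [Functor.map_comp]; infer_instance)
      (by rw [Category.assoc, he', E.φ_nat D.pW hB, Category.assoc]),
      Category.assoc, hu₂', E.φ_nat D.pW hB, Category.assoc]
  have hcongr : ∀ {B : 𝒯.obj} (k k₁ k' k₁' : B ⟶ D.A₀) {y : 𝒳.obj} (u u' : y ⟶ E.ξ)
      (hu : 𝒳.p.IsHomLift (𝒯.p.map k) u) (hu' : 𝒳.p.IsHomLift (𝒯.p.map k₁) u'),
      k = k₁ → k' = k₁' → u = u' → ρ k k' u hu = ρ k₁ k₁' u' hu' := by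
    rintro B k k₁ k' k₁' y u u' hu hu' rfl rfl rfl
    rfl
  -- injectivity on the diagonal, checked on the chart
  have hrefl : ∀ {B : 𝒯.obj} (k : B ⟶ D.A₀) {y : 𝒳.obj} (u : y ⟶ E.ξ) (hu : 𝒳.p.IsHomLift (𝒯.p.map k) u),
      ρ k k u hu = u := by
    have h0 : 𝒳.p.IsHomLift (𝒯.p.map (𝟙 D.A₀)) (𝟙 E.ξ) := by
      rw [CategoryTheory.Functor.map_id]
      exact IsHomLift.id hover
    have key : ρ (𝟙 D.A₀) (𝟙 D.A₀) (𝟙 E.ξ) h0 = 𝟙 E.ξ := by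
      haveI := hlift _ (𝟙 D.A₀) _ h0
      haveI := h0
      haveI : IsAffine (𝒳.p.obj E.ξ).left := isAffine_of_lift (𝒯.p.map (𝟙 D.A₀)) (𝟙 E.ξ) D.aff₀
      haveI := E.lift
      have h1 := E.φ_lift D.pV D.j₀
      refine hom_ext_of_injective hX hd E.μ (injective_of_lift (𝒯.p.map D.j₀) E.μ D.bij₀.1)
        (map_eq_of_lift (𝒯.p.map (𝟙 D.A₀)) _ _) ?_
      rw [← hnat D.j₀ (𝟙 _) (𝟙 _) E.μ E.lift _ h0 (by simpa using E.lift)]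
      rw [hcongr _ D.j₀ _ D.j₀ _ (E.φ D.pV D.j₀) _ h1 (Category.comp_id _) (Category.comp_id _)
        (by rw [Category.comp_id, E.φ_j₀]), hagree D.pV D.j₀ D.j₀ h1, E.φ_j₀, Category.comp_id]
    intro B k y u hu
    have h2 := hnat k (𝟙 _) (𝟙 _) u hu (𝟙 E.ξ) h0 (by simpa using hu)
    rw [key] at h2
    rw [hcongr k (k ≫ 𝟙 _) k (k ≫ 𝟙 _) u (u ≫ 𝟙 _) hu (by simpa using hu) (Category.comp_id _).symm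
      (Category.comp_id _).symm (Category.comp_id _).symm, h2, Category.comp_id]
  refine ⟨⟨ρ, hlift, hnat, hagree, hrefl, ?_⟩⟩
  intro B k k' k'' y u hu hu'
  obtain ⟨r, hr⟩ := D.triple ![k, k', k'']
  obtain rfl : r ≫ D.l 0 = k := hr 0
  obtain rfl : r ≫ D.l 1 = k' := hr 1
  obtain rfl : r ≫ D.l 2 = k'' := hr 2
  obtain ⟨ξ₀, u₀, hu₀⟩ := Fib44.exists_lift' 𝒳.p hX hover (𝒯.p.map (D.l 0))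
  obtain ⟨w, ⟨hw, rfl⟩, -⟩ := IsoNat97.exists_fac hX (𝒯.p.map r) (Functor.map_comp _ _ _).symm u₀ hu₀ u hu
  have hr1 := hlift (D.l 0) (D.l 1) u₀ hu₀
  have key : ρ (D.l 1) (D.l 2) (ρ (D.l 0) (D.l 1) u₀ hu₀) hr1 = ρ (D.l 0) (D.l 2) u₀ hu₀ := by
    haveI := hlift (D.l 1) (D.l 2) _ hr1
    haveI := hlift (D.l 0) (D.l 2) u₀ hu₀
    haveI : IsAffine (𝒳.p.obj ξ₀).left := isAffine_of_lift (𝒯.p.map (D.l 0)) u₀ D.aff₂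
    have hφ := E.φ_lift D.pW₂ (D.j₂ ≫ D.l 0)
    obtain ⟨e₂, ⟨he₂, he₂'⟩, -⟩ := IsoNat97.exists_fac hX (𝒯.p.map D.j₂) (k := 𝒯.p.map (D.j₂ ≫ D.l 0))
      (Functor.map_comp _ _ _).symm u₀ hu₀ (E.φ D.pW₂ (D.j₂ ≫ D.l 0)) hφ
    haveI := he₂
    refine hom_ext_of_injective hX hd e₂ (injective_of_lift (𝒯.p.map D.j₂) e₂ D.inj₂)
      (map_eq_of_lift (𝒯.p.map (D.l 2)) _ _) ?_
    have g1 : 𝒳.p.IsHomLift (𝒯.p.map (D.j₂ ≫ D.l 1)) (e₂ ≫ ρ (D.l 0) (D.l 1) u₀ hu₀) :=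
      lift_comp (E := E) hX _ _ _ he₂ _ hr1
    have g0 : 𝒳.p.IsHomLift (𝒯.p.map (D.j₂ ≫ D.l 0)) (e₂ ≫ u₀) := lift_comp (E := E) hX _ _ _ he₂ _ hu₀
    have a1 : e₂ ≫ ρ (D.l 0) (D.l 1) u₀ hu₀ = E.φ D.pW₂ (D.j₂ ≫ D.l 1) := by
      rw [← hnat D.j₂ (D.l 0) (D.l 1) e₂ he₂ u₀ hu₀ g0,
        hcongr _ _ _ _ _ (E.φ D.pW₂ (D.j₂ ≫ D.l 0)) g0 hφ rfl rfl he₂']
      exact hagree D.pW₂ (D.j₂ ≫ D.l 0) (D.j₂ ≫ D.l 1) hφ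
    rw [← hnat D.j₂ (D.l 1) (D.l 2) e₂ he₂ _ hr1 g1, ← hnat D.j₂ (D.l 0) (D.l 2) e₂ he₂ u₀ hu₀ g0]
    rw [hcongr _ _ _ _ _ (E.φ D.pW₂ (D.j₂ ≫ D.l 1)) g1 (E.φ_lift _ _) rfl rfl a1,
      hcongr _ _ _ _ _ (E.φ D.pW₂ (D.j₂ ≫ D.l 0)) g0 hφ rfl rfl he₂']
    exact (hagree D.pW₂ (D.j₂ ≫ D.l 1) (D.j₂ ≫ D.l 2) _).trans
      (hagree D.pW₂ (D.j₂ ≫ D.l 0) (D.j₂ ≫ D.l 2) hφ).symm
  have hw1 := lift_comp (E := E) hX r (D.l 1) w hw _ hr1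
  have e1 : ρ (r ≫ D.l 0) (r ≫ D.l 1) (w ≫ u₀) hu = w ≫ ρ (D.l 0) (D.l 1) u₀ hu₀ := hnat r _ _ w hw u₀ hu₀ hu
  rw [hnat r (D.l 0) (D.l 2) w hw u₀ hu₀ hu, ← key, ← hnat r (D.l 1) (D.l 2) w hw _ hr1 hw1]
  congr 1

end Groth.Agent.Stack44Ext
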